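import Groth.Agent.NagataCompLib.Tools

/-!
# Gluing two models after admissible blow-ups
-/

set_option autoImplicit false
universe u
open CategoryTheory CategoryTheory.Limits AlgebraicGeometry TopologicalSpace

namespace NagataCompLib

theorem isIso_restrict_of_admissible {X X' : Scheme.{u}} {b : X' ⟶ X} {K : X.IdealSheafData} {O : X.Opens}
    (hb : BlowUp.IsBlowUp b K) (ha : BlowUp.IsAdmissibleFor O K) : IsIso (b ∣_ O) :=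
  EffCartLib.isIso_off_center K b hb O fun _ hx hx' => Set.disjoint_left.mp ha.2 hx' hx

/-- An open immersion over the smaller open with the same preimage is one over the larger. -/
theorem isOpenImmersion_restrict_of_eq {R Y : Scheme.{u}} (φ : R ⟶ Y) {O O' : Y.Opens}
    (h : φ ⁻¹ᵁ O = φ ⁻¹ᵁ O') (hO' : IsIso (φ ∣_ O')) : IsOpenImmersion (φ ∣_ O) := by
  haveI := hO'
  have e : (φ ∣_ O) ≫ O.ι = (R.isoOfEq h).hom ≫ (φ ∣_ O') ≫ O'.ι := by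
    rw [morphismRestrict_ι, morphismRestrict_ι, Scheme.isoOfEq_hom_ι_assoc]
  haveI : IsOpenImmersion ((φ ∣_ O) ≫ O.ι) := by rw [e]; infer_instance
  exact IsOpenImmersion.of_comp _ O.ι

/-- Two separated schemes of finite type with opens glued along a common open: after admissible blow-ups
they glue to a separated scheme of finite type, provided their joint closure adds nothing over the opens. -/
theorem exists_glue_pair {S U₁ U₂ V X₁ X₂ : Scheme.{u}} [CompactSpace S] [QuasiSeparatedSpace S]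
    [CompactSpace U₁] [CompactSpace U₂] [CompactSpace V]
    (q₁ : X₁ ⟶ S) (q₂ : X₂ ⟶ S) [IsSeparated q₁] [LocallyOfFiniteType q₁] [QuasiCompact q₁]
    [IsSeparated q₂] [LocallyOfFiniteType q₂] [QuasiCompact q₂]
    (e₁ : V ⟶ U₁) (e₂ : V ⟶ U₂) [IsOpenImmersion e₁] [IsOpenImmersion e₂]
    (k₁ : U₁ ⟶ X₁) (k₂ : U₂ ⟶ X₂) [IsOpenImmersion k₁] [IsOpenImmersion k₂]
    (σ : V ⟶ pullback q₁ q₂) (hσ₁ : σ ≫ pullback.fst q₁ q₂ = e₁ ≫ k₁) (hσ₂ : σ ≫ pullback.snd q₁ q₂ = e₂ ≫ k₂)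
    (hd₁ : ∀ z ∈ closure (Set.range σ), pullback.fst q₁ q₂ z ∈ Set.range k₁ → z ∈ Set.range σ)
    (hd₂ : ∀ z ∈ closure (Set.range σ), pullback.snd q₁ q₂ z ∈ Set.range k₂ → z ∈ Set.range σ) :
    ∃ (X : Scheme.{u}) (q : X ⟶ S) (Z₁ Z₂ : Scheme.{u}) (b₁ : Z₁ ⟶ X₁) (b₂ : Z₂ ⟶ X₂)
      (o₁ : Z₁ ⟶ X) (o₂ : Z₂ ⟶ X) (l₁ : U₁ ⟶ Z₁) (l₂ : U₂ ⟶ Z₂),
      IsSeparated q ∧ LocallyOfFiniteType q ∧ QuasiCompact q ∧ IsProper b₁ ∧ IsProper b₂ ∧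
      IsOpenImmersion o₁ ∧ IsOpenImmersion o₂ ∧ o₁ ≫ q = b₁ ≫ q₁ ∧ o₂ ≫ q = b₂ ≫ q₂ ∧
      IsOpenImmersion l₁ ∧ IsOpenImmersion l₂ ∧ l₁ ≫ b₁ = k₁ ∧ l₂ ≫ b₂ = k₂ ∧
      e₁ ≫ l₁ ≫ o₁ = e₂ ≫ l₂ ≫ o₂ ∧ ∀ x y, o₁ (l₁ x) = o₂ (l₂ y) → ∃ t, e₁ t = x ∧ e₂ t = y := by
  haveI : CompactSpace X₁ := QuasiCompact.compactSpace_of_compactSpace q₁
  haveI : CompactSpace X₂ := QuasiCompact.compactSpace_of_compactSpace q₂
  haveI : QuasiSeparatedSpace X₁ := quasiSeparatedSpace_of_quasiSeparated q₁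
  haveI : QuasiSeparatedSpace X₂ := quasiSeparatedSpace_of_quasiSeparated q₂
  haveI : QuasiCompact (σ ≫ pullback.fst q₁ q₂) := by rw [hσ₁]; exact quasiCompact_of_compactSpace _
  haveI : QuasiCompact σ := QuasiCompact.of_comp σ (pullback.fst q₁ q₂)
  let φ₁ : σ.image ⟶ X₁ := σ.imageι ≫ pullback.fst q₁ q₂
  let φ₂ : σ.image ⟶ X₂ := σ.imageι ≫ pullback.snd q₁ q₂
  have hle₁ : (e₁ ≫ k₁).opensRange ≤ k₁.opensRange := by rintro _ ⟨x, rfl⟩; exact ⟨e₁ x, rfl⟩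
  have hle₂ : (e₂ ≫ k₂).opensRange ≤ k₂.opensRange := by rintro _ ⟨x, rfl⟩; exact ⟨e₂ x, rfl⟩
  have hp₁ : φ₁ ⁻¹ᵁ k₁.opensRange = φ₁ ⁻¹ᵁ (e₁ ≫ k₁).opensRange := by
    refine le_antisymm (fun z hz => ?_) fun z hz => hle₁ hz
    obtain ⟨t, ht⟩ := hd₁ _ (imageι_mem_closure σ z) hz
    exact ⟨t, by rw [← hσ₁, Scheme.Hom.comp_apply, ht]; rfl⟩
  have hp₂ : φ₂ ⁻¹ᵁ k₂.opensRange = φ₂ ⁻¹ᵁ (e₂ ≫ k₂).opensRange := by
    refine le_antisymm (fun z hz => ?_) fun z hz => hle₂ hz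
    obtain ⟨t, ht⟩ := hd₂ _ (imageι_mem_closure σ z) hz
    exact ⟨t, by rw [← hσ₂, Scheme.Hom.comp_apply, ht]; rfl⟩
  haveI hφ₁ : IsOpenImmersion (φ₁ ∣_ k₁.opensRange) :=
    isOpenImmersion_restrict_of_eq φ₁ hp₁ (RGFlatLib.isIso_image_of_section σ _ _ hσ₁)
  haveI hφ₂ : IsOpenImmersion (φ₂ ∣_ k₂.opensRange) :=
    isOpenImmersion_restrict_of_eq φ₂ hp₂ (RGFlatLib.isIso_image_of_section σ _ _ hσ₂)
  have hr₁ : ((φ₁ ⁻¹ᵁ k₁.opensRange : σ.image.Opens) : Set σ.image) = Set.range σ.toImage :=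
    hp₁ ▸ RGFlatLib.preimage_opensRange_eq σ _ _ hσ₁
  have hr₂ : ((φ₂ ⁻¹ᵁ k₂.opensRange : σ.image.Opens) : Set σ.image) = Set.range σ.toImage :=
    hp₂ ▸ RGFlatLib.preimage_opensRange_eq σ _ _ hσ₂
  have hpre : φ₁ ⁻¹ᵁ k₁.opensRange = φ₂ ⁻¹ᵁ k₂.opensRange := Opens.ext (hr₁.trans hr₂.symm)
  have hO₁ : IsCompact (k₁.opensRange : Set X₁) := by rw [Scheme.Hom.coe_opensRange]; exact isCompact_range k₁.continuous
  have hO₂ : IsCompact (k₂.opensRange : Set X₂) := by rw [Scheme.Hom.coe_opensRange]; exact isCompact_range k₂.continuous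
  obtain ⟨K₁, X₁a, b₁, Z₁, p₁, z₁, hb₁, ha₁, hp₁o, hp₁', hz₁, hA₁⟩ := exists_side φ₁ k₁.opensRange hO₁
  obtain ⟨K₂, X₂a, b₂, Z₂, p₂, z₂, hb₂, ha₂, hp₂o, hp₂', hz₂, hA₂⟩ := exists_side φ₂ k₂.opensRange hO₂
  rw [← hpre] at hA₂
  have hM : BlowUp.IsAdmissibleFor (φ₁ ⁻¹ᵁ k₁.opensRange) (K₁.comap φ₁ * K₂.comap φ₂) := by
    refine ⟨fun V => ?_, ?_⟩
    · rw [Scheme.IdealSheafData.ideal_mul, Pi.mul_apply]; exact Submodule.FG.mul (hA₁.1 V) (hA₂.1 V)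
    · rw [Scheme.IdealSheafData.support_mul]; exact Disjoint.union_left hA₁.2 hA₂.2
  obtain ⟨W, w, hw⟩ := BlowUpLib.exists_isBlowUp σ.image (K₁.comap φ₁ * K₂.comap φ₂)
  obtain ⟨w₁, hw₁, hw₁'⟩ := RGFlatLib.exists_factor (R := K₂.comap φ₂) (I := K₁.comap φ₁) hz₁ (mul_comm (K₁.comap φ₁) _ ▸ hw)
  obtain ⟨w₂, hw₂, hw₂'⟩ := RGFlatLib.exists_factor (R := K₁.comap φ₁) (I := K₂.comap φ₂) hz₂ hw
  have hM' : BlowUp.IsAdmissibleFor (φ₂ ⁻¹ᵁ k₂.opensRange) (K₁.comap φ₁ * K₂.comap φ₂) := hpre ▸ hM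
  haveI := BlowUpLib.isProper_of_isBlowUp hb₁ ha₁.1
  haveI := BlowUpLib.isProper_of_isBlowUp hb₂ ha₂.1
  haveI : CompactSpace X₁a := QuasiCompact.compactSpace_of_compactSpace b₁
  haveI : CompactSpace X₂a := QuasiCompact.compactSpace_of_compactSpace b₂
  haveI : QuasiSeparatedSpace X₁a := quasiSeparatedSpace_of_quasiSeparated b₁
  haveI : QuasiSeparatedSpace X₂a := quasiSeparatedSpace_of_quasiSeparated b₂
  haveI := BlowUpLib.isProper_of_isBlowUp hz₁ hA₁.1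
  haveI := BlowUpLib.isProper_of_isBlowUp hz₂ hA₂.1
  haveI : CompactSpace σ.image := QuasiCompact.compactSpace_of_compactSpace φ₁
  haveI : CompactSpace Z₁ := QuasiCompact.compactSpace_of_compactSpace z₁
  haveI : CompactSpace Z₂ := QuasiCompact.compactSpace_of_compactSpace z₂
  haveI := hp₁o
  haveI := hp₂o
  obtain ⟨D₁, Y₁, c₁, m₁, hc₁, hD₁, hm₁o, hm₁⟩ := RGFlatLib.exists_extended_blowUp (b₁ ⁻¹ᵁ k₁.opensRange)
    (b₁.isCompact_preimage hO₁) p₁ _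
    (by
      rw [← Scheme.Hom.comp_preimage, hp₁', Scheme.Hom.comp_preimage, mul_comm (K₂.comap φ₂)]
      exact RGFlatLib.admissible_comap hM z₁) w₁ hw₁'
  obtain ⟨D₂, Y₂, c₂, m₂, hc₂, hD₂, hm₂o, hm₂⟩ := RGFlatLib.exists_extended_blowUp (b₂ ⁻¹ᵁ k₂.opensRange)
    (b₂.isCompact_preimage hO₂) p₂ _
    (by rw [← Scheme.Hom.comp_preimage, hp₂', Scheme.Hom.comp_preimage]; exact RGFlatLib.admissible_comap hM' z₂) w₂ hw₂'
  haveI := hm₁o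
  haveI := hm₂o
  haveI := BlowUpLib.isProper_of_isBlowUp hc₁ hD₁.1
  haveI := BlowUpLib.isProper_of_isBlowUp hc₂ hD₂.1
  haveI := BlowUpLib.isProper_of_isBlowUp hw hM.1
  have i₁ : IsIso ((c₁ ≫ b₁) ∣_ k₁.opensRange) := by
    rw [morphismRestrict_comp]
    exact @IsIso.comp_isIso _ _ _ _ _ _ _ (isIso_restrict_of_admissible hc₁ hD₁) (isIso_restrict_of_admissible hb₁ ha₁)
  have i₂ : IsIso ((c₂ ≫ b₂) ∣_ k₂.opensRange) := by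
    rw [morphismRestrict_comp]
    exact @IsIso.comp_isIso _ _ _ _ _ _ _ (isIso_restrict_of_admissible hc₂ hD₂) (isIso_restrict_of_admissible hb₂ ha₂)
  have f₁ : m₁ ≫ c₁ ≫ b₁ = w ≫ φ₁ := by rw [reassoc_of% hm₁, hp₁', reassoc_of% hw₁]
  have f₂ : m₂ ≫ c₂ ≫ b₂ = w ≫ φ₂ := by rw [reassoc_of% hm₂, hp₂', reassoc_of% hw₂]
  have hwS : m₁ ≫ (c₁ ≫ b₁) ≫ q₁ = m₂ ≫ (c₂ ≫ b₂) ≫ q₂ := by
    rw [← Category.assoc m₁, f₁, ← Category.assoc m₂, f₂]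
    simp only [φ₁, φ₂, Category.assoc, pullback.condition]
  haveI : IsClosedImmersion (pullback.lift m₁ m₂ hwS) := by
    let m : pullback ((c₁ ≫ b₁) ≫ q₁) ((c₂ ≫ b₂) ≫ q₂) ⟶ pullback q₁ q₂ :=
      pullback.map _ _ _ _ (c₁ ≫ b₁) (c₂ ≫ b₂) (𝟙 S) (Category.comp_id _) (Category.comp_id _)
    haveI : IsSeparated m := by
      haveI : IsSeparated (m ≫ pullback.fst q₁ q₂ ≫ q₁) := by
        rw [pullback.lift_fst_assoc, Category.assoc]; infer_instance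
      exact IsSeparated.of_comp m (pullback.fst q₁ q₂ ≫ q₁)
    haveI : IsProper (pullback.lift m₁ m₂ hwS ≫ m) := by
      rw [show pullback.lift m₁ m₂ hwS ≫ m = w ≫ σ.imageι from pullback.hom_ext
        (by rw [Category.assoc, pullback.lift_fst, pullback.lift_fst_assoc, Category.assoc]; exact f₁)
        (by rw [Category.assoc, pullback.lift_snd, pullback.lift_snd_assoc, Category.assoc]; exact f₂)]
      infer_instance
    haveI : IsProper (pullback.lift m₁ m₂ hwS) := IsProper.of_comp _ m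
    haveI : Mono (pullback.lift m₁ m₂ hwS) := by
      haveI : Mono (pullback.lift m₁ m₂ hwS ≫ pullback.fst ((c₁ ≫ b₁) ≫ q₁) ((c₂ ≫ b₂) ≫ q₂)) := by
        rw [pullback.lift_fst]; infer_instance
      exact mono_of_mono _ (pullback.fst ((c₁ ≫ b₁) ≫ q₁) ((c₂ ≫ b₂) ≫ q₂))
    exact (IsClosedImmersion.iff_isProper_and_mono (pullback.lift m₁ m₂ hwS)).mpr ⟨inferInstance, inferInstance⟩
  obtain ⟨X, q, o₁, o₂, hq, hqft, hqc, ho₁, ho₂, hq₁, hq₂, hmo, hsq⟩ :=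
    RGFlatLib.exists_glue_two m₁ m₂ ((c₁ ≫ b₁) ≫ q₁) ((c₂ ≫ b₂) ≫ q₂) hwS
  -- lifts of the two opens
  let l₁ : U₁ ⟶ Y₁ := k₁.isoOpensRange.hom ≫ @inv _ _ _ _ _ i₁ ≫ ((c₁ ≫ b₁) ⁻¹ᵁ k₁.opensRange).ι
  let l₂ : U₂ ⟶ Y₂ := k₂.isoOpensRange.hom ≫ @inv _ _ _ _ _ i₂ ≫ ((c₂ ≫ b₂) ⁻¹ᵁ k₂.opensRange).ι
  have hl₁ : l₁ ≫ c₁ ≫ b₁ = k₁ := by
    simp only [l₁, Category.assoc]
    rw [← morphismRestrict_ι, IsIso.inv_hom_id_assoc]
    simp [Scheme.Hom.isoOpensRange]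
  have hl₂ : l₂ ≫ c₂ ≫ b₂ = k₂ := by
    simp only [l₂, Category.assoc]
    rw [← morphismRestrict_ι, IsIso.inv_hom_id_assoc]
    simp [Scheme.Hom.isoOpensRange]
  obtain ⟨v, hv, -⟩ := hw.2 V σ.toImage (by
    rw [show (K₁.comap φ₁ * K₂.comap φ₂).comap σ.toImage = ⊤ from ?_]
    · exact EffCartLib.isEffCartier_top
    rw [← Scheme.IdealSheafData.support_eq_bot_iff, Scheme.IdealSheafData.support_comap]
    refine SetLike.ext fun x => iff_of_false (fun hx => ?_) (fun hx => hx)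
    refine Set.disjoint_left.mp hM.2 hx ?_
    rw [hr₁]
    exact ⟨x, rfl⟩)
  have g₁ : e₁ ≫ l₁ = v ≫ m₁ := by
    haveI := i₁
    refine ModPairLib.eq_of_isIso_restrict (s := c₁ ≫ b₁) (V := k₁.opensRange) ?_ fun t => ?_
    · simp only [Category.assoc]
      rw [hl₁, f₁, reassoc_of% hv, Scheme.Hom.toImage_imageι_assoc, hσ₁]
    · rw [← Scheme.Hom.comp_apply, Category.assoc, hl₁]
      exact ⟨_, rfl⟩
  have g₂ : e₂ ≫ l₂ = v ≫ m₂ := by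
    haveI := i₂
    refine ModPairLib.eq_of_isIso_restrict (s := c₂ ≫ b₂) (V := k₂.opensRange) ?_ fun t => ?_
    · simp only [Category.assoc]
      rw [hl₂, f₂, reassoc_of% hv, Scheme.Hom.toImage_imageι_assoc, hσ₂]
    · rw [← Scheme.Hom.comp_apply, Category.assoc, hl₂]
      exact ⟨_, rfl⟩
  refine ⟨X, q, Y₁, Y₂, c₁ ≫ b₁, c₂ ≫ b₂, o₁, o₂, l₁, l₂, hq, hqft, hqc, inferInstance, inferInstance, ho₁, ho₂,
    hq₁, hq₂, (isOpenImmersion_lift k₁ _ i₁ l₁ hl₁).1, (isOpenImmersion_lift k₂ _ i₂ l₂ hl₂).1, hl₁, hl₂,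
    by rw [reassoc_of% g₁, reassoc_of% g₂, hmo], fun x y hxy => ?_⟩
  obtain ⟨p, hp₁x, hp₂y⟩ := Scheme.Pullback.exists_preimage_pullback (f := o₁) (g := o₂) (l₁ x) (l₂ y) hxy
  have hm₁x : m₁ (hsq.isoPullback.inv p) = l₁ x := by
    rw [← Scheme.Hom.comp_apply, hsq.isoPullback_inv_fst]; exact hp₁x
  have hm₂y : m₂ (hsq.isoPullback.inv p) = l₂ y := by
    rw [← Scheme.Hom.comp_apply, hsq.isoPullback_inv_snd]; exact hp₂y
  let z := σ.imageι (w (hsq.isoPullback.inv p))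
  have hz₁' : pullback.fst q₁ q₂ z = k₁ x := by
    show φ₁ (w (hsq.isoPullback.inv p)) = k₁ x
    rw [← Scheme.Hom.comp_apply, ← f₁, Scheme.Hom.comp_apply, hm₁x, ← Scheme.Hom.comp_apply, hl₁]
  have hz₂' : pullback.snd q₁ q₂ z = k₂ y := by
    show φ₂ (w (hsq.isoPullback.inv p)) = k₂ y
    rw [← Scheme.Hom.comp_apply, ← f₂, Scheme.Hom.comp_apply, hm₂y, ← Scheme.Hom.comp_apply, hl₂]
  obtain ⟨t, ht⟩ := hd₁ z (imageι_mem_closure σ _) ⟨x, hz₁'.symm⟩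
  refine ⟨t, k₁.isOpenEmbedding.injective ?_, k₂.isOpenEmbedding.injective ?_⟩
  · rw [← hz₁', ← ht, ← Scheme.Hom.comp_apply, ← hσ₁]; rfl
  · rw [← hz₂', ← ht, ← Scheme.Hom.comp_apply, ← hσ₂]; rfl

end NagataCompLib
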