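import Groth.Agent.NagataCompLib.Union
import Groth.Agent.ChowLib.ChowAll

/-!
# Nagata compactification
-/

set_option autoImplicit false
universe u
open CategoryTheory CategoryTheory.Limits AlgebraicGeometry TopologicalSpace

namespace NagataCompLib

/-- An immersion into something proper over the base has a compactification. -/
theorem exists_compactification_of_immersion {U S P : Scheme.{u}} [CompactSpace S] [QuasiSeparatedSpace S]
    [CompactSpace U] (i : U ⟶ P) [IsImmersion i] (π : P ⟶ S) [IsProper π] (g : U ⟶ S) (h : i ≫ π = g) :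
    ∃ (Y : Scheme.{u}) (j : U ⟶ Y) (p : Y ⟶ S), IsOpenImmersion j ∧ QuasiCompact j ∧ IsProper p ∧ j ≫ p = g := by
  haveI : QuasiSeparatedSpace P := quasiSeparatedSpace_of_quasiSeparated π
  haveI : QuasiCompact i := quasiCompact_of_compactSpace i
  haveI : QuasiSeparatedSpace i.image := quasiSeparatedSpace_of_quasiSeparated i.imageι
  exact ⟨i.image, i.toImage, i.imageι ≫ π, inferInstance, quasiCompact_of_compactSpace _, inferInstance,
    by rw [Scheme.Hom.toImage_imageι_assoc, h]⟩

/-- Nagata: separated morphisms of finite type to quasi-compact quasi-separated schemes compactify. -/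
theorem exists_compactification {X S : Scheme.{u}} (f : X ⟶ S) [CompactSpace S] [QuasiSeparatedSpace S]
    [IsSeparated f] [QuasiCompact f] [LocallyOfFiniteType f] :
    ∃ (Y : Scheme.{u}) (j : X ⟶ Y) (p : Y ⟶ S), IsOpenImmersion j ∧ QuasiCompact j ∧ IsProper p ∧ j ≫ p = f := by
  classical
  haveI : CompactSpace X := QuasiCompact.compactSpace_of_compactSpace f
  haveI : QuasiSeparatedSpace X := quasiSeparatedSpace_of_quasiSeparated f
  obtain ⟨m, U, N, ji, hUc, hji, hjc, hcov⟩ := ChowLib.exists_finite_immersed_cover f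
  have hc : ∀ t : Finset (Fin m), IsCompact ((t.sup U : X.Opens) : Set X) := fun t => by
    induction t using Finset.induction_on with
    | empty => rw [Finset.sup_empty]; exact isCompact_empty
    | insert a t _ ih => rw [Finset.sup_insert]; exact (hUc a).union ih
  have key : ∀ t : Finset (Fin m), ∃ (Y : Scheme.{u}) (j : ((t.sup U : X.Opens) : Scheme.{u}) ⟶ Y) (p : Y ⟶ S),
      IsOpenImmersion j ∧ QuasiCompact j ∧ IsProper p ∧ j ≫ p = (t.sup U).ι ≫ f := by
    intro t
    induction t using Finset.induction_on with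
    | empty =>
      rw [Finset.sup_empty]
      haveI : CompactSpace (⊥ : X.Opens) := isCompact_iff_compactSpace.mp isCompact_empty
      haveI : IsEmpty ((⊥ : X.Opens) : Scheme.{u}) := ⟨fun x => x.2⟩
      haveI : IsImmersion ((⊥ : X.Opens).ι ≫ f) := inferInstance
      exact exists_compactification_of_immersion ((⊥ : X.Opens).ι ≫ f) (𝟙 S) _ (Category.comp_id _)
    | insert a t _ ih =>
      let W : X.Opens := (insert a t).sup U
      have h₁ : U a ≤ W := Finset.le_sup (f := U) (Finset.mem_insert_self a t)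
      have h₂ : t.sup U ≤ W := Finset.sup_mono (Finset.subset_insert a t)
      haveI : CompactSpace W := isCompact_iff_compactSpace.mp (hc _)
      haveI : QuasiCompact (W.ι ≫ f) := quasiCompact_of_compactSpace _
      let V₁ : (W : Scheme.{u}).Opens := W.ι ⁻¹ᵁ U a
      let V₂ : (W : Scheme.{u}).Opens := W.ι ⁻¹ᵁ t.sup U
      have e₁ : W.ι ''ᵁ V₁ = U a := by
        rw [Scheme.Hom.image_preimage_eq_opensRange_inf, Scheme.Opens.opensRange_ι]; exact inf_eq_right.mpr h₁
      have e₂ : W.ι ''ᵁ V₂ = t.sup U := by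
        rw [Scheme.Hom.image_preimage_eq_opensRange_inf, Scheme.Opens.opensRange_ι]; exact inf_eq_right.mpr h₂
      have hV : ∀ (V : (W : Scheme.{u}).Opens), IsCompact ((W.ι ''ᵁ V : X.Opens) : Set X) →
          IsCompact (V : Set (W : Scheme.{u})) := fun V h => W.ι.isOpenEmbedding.isCompact_iff.mpr h
      refine exists_compactification_union (W.ι ≫ f) V₁ V₂ ?_ (hV _ (e₁ ▸ hUc a)) (hV _ (e₂ ▸ hc t)) ?_ ?_
      · refine eq_top_iff.mpr fun x _ => ?_
        have hx : x.1 ∈ U a ⊔ t.sup U := by rw [← Finset.sup_insert]; exact x.2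
        exact hx
      · haveI : CompactSpace (U a) := isCompact_iff_compactSpace.mp (hUc a)
        haveI : CompactSpace V₁ := isCompact_iff_compactSpace.mp (hV _ (e₁ ▸ hUc a))
        haveI := hji a
        let i : (V₁ : Scheme.{u}) ⟶ (U a : Scheme.{u}) := (W.ι ∣_ U a)
        haveI : IsImmersion (i ≫ ji a) := inferInstance
        exact exists_compactification_of_immersion (i ≫ ji a) (CohB1.ProjSpaceOver.toBase (N a) S) _
          (by rw [Category.assoc, hjc, morphismRestrict_ι_assoc])
      · obtain ⟨Y, j, p, hjo, hjq, hp, hjp⟩ := ih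
        haveI := hjo
        haveI := hjq
        let i : (V₂ : Scheme.{u}) ⟶ ((t.sup U : X.Opens) : Scheme.{u}) := (W.ι ∣_ t.sup U)
        haveI : IsIso i := by
          haveI : IsOpenImmersion i := inferInstanceAs (IsOpenImmersion (W.ι ∣_ t.sup U))
          haveI : Surjective i := ⟨fun x => ⟨⟨⟨x.1, h₂ x.2⟩, x.2⟩, Subtype.ext (by
            rw [morphismRestrict_base_coe]; rfl)⟩⟩
          exact (isIso_iff_isOpenImmersion_and_surjective _).mpr ⟨inferInstance, inferInstance⟩
        exact ⟨Y, i ≫ j, p, inferInstance, inferInstance, hp, by rw [Category.assoc, hjp, morphismRestrict_ι_assoc]⟩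
  obtain ⟨Y, j, p, hjo, hjq, hp, hjp⟩ := key Finset.univ
  haveI := hjo
  haveI := hjq
  have e : (Finset.univ.sup U : X.Opens) = ⊤ := eq_top_iff.mpr fun x _ => by
    obtain ⟨a, ha⟩ := hcov x
    exact Finset.le_sup (f := U) (Finset.mem_univ a) ha
  haveI : IsIso (Finset.univ.sup U : X.Opens).ι := by rw [e, ← Scheme.topIso_hom]; infer_instance
  exact ⟨Y, inv (Finset.univ.sup U : X.Opens).ι ≫ j, p, inferInstance, inferInstance, hp,
    by rw [Category.assoc, hjp, IsIso.inv_hom_id_assoc]⟩

end NagataCompLib
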