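import Groth.Agent.NagataCompLib.GluePair

/-!
# A compactification from two opens of compactified pieces covering their joint closure
-/

set_option autoImplicit false
universe u
open CategoryTheory CategoryTheory.Limits AlgebraicGeometry TopologicalSpace

namespace NagataCompLib

/-- Over an open of the joint closure mapping to a model, the graph closure is universally closed. -/
theorem universallyClosed_graph_restrict {S V X Γ Y Z : Scheme.{u}} (q : X ⟶ S) [IsSeparated q] (a : Γ ⟶ S)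
    (τ : V ⟶ pullback q a) [QuasiCompact τ] (G : Y.Opens) (f : Γ ⟶ Y) (p : Y ⟶ S) (hfp : f ≫ p = a)
    (b : Z ⟶ G) [IsProper b] (o : Z ⟶ X) (ho : o ≫ q = b ≫ G.ι ≫ p) (l : V ⟶ Z)
    (hl₁ : τ ≫ pullback.fst q a = l ≫ o) (hl₂ : τ ≫ pullback.snd q a ≫ f = l ≫ b ≫ G.ι) :
    UniversallyClosed ((τ.imageι ≫ pullback.snd q a) ∣_ (f ⁻¹ᵁ G)) := by
  let d := pullback.snd b (f ∣_ G)
  have hθ : (pullback.fst b (f ∣_ G) ≫ o) ≫ q = (d ≫ (f ⁻¹ᵁ G).ι) ≫ a := by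
    rw [Category.assoc, ho, pullback.condition_assoc, morphismRestrict_ι_assoc, Category.assoc, hfp]
  let θ : pullback b (f ∣_ G) ⟶ pullback q a := pullback.lift (pullback.fst b (f ∣_ G) ≫ o) (d ≫ (f ⁻¹ᵁ G).ι) hθ
  refine universallyClosed_restrict (pullback.snd q a) (f ⁻¹ᵁ G) θ d τ (pullback.lift_snd _ _ _) fun x _ => ?_
  have hr : Set.range (τ ≫ pullback.snd q a) ⊆ Set.range (f ⁻¹ᵁ G).ι := by
    rintro _ ⟨t, rfl⟩
    rw [Scheme.Opens.range_ι]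
    show f ((τ ≫ pullback.snd q a) t) ∈ G
    rw [← Scheme.Hom.comp_apply, Category.assoc, hl₂, ← Category.assoc, Scheme.Hom.comp_apply]
    exact ((l ≫ b) t).2
  let s : V ⟶ (f ⁻¹ᵁ G : Γ.Opens) := IsOpenImmersion.lift _ _ hr
  have hs : s ≫ (f ⁻¹ᵁ G).ι = τ ≫ pullback.snd q a := IsOpenImmersion.lift_fac _ _ _
  let ψ : V ⟶ pullback b (f ∣_ G) := pullback.lift l s (by
    rw [← cancel_mono G.ι, Category.assoc, Category.assoc, morphismRestrict_ι, reassoc_of% hs, ← hl₂])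
  refine ⟨ψ x, ?_⟩
  rw [← Scheme.Hom.comp_apply]
  exact congrArg (fun t : V ⟶ pullback q a => t x) (pullback.hom_ext (f := q) (g := a)
    (by rw [Category.assoc, pullback.lift_fst, pullback.lift_fst_assoc, hl₁])
    (by rw [Category.assoc, pullback.lift_snd, pullback.lift_snd_assoc, hs]))

/-- Morphisms agreeing on two opens covering the source are equal. -/
theorem hom_ext_two {U X : Scheme.{u}} {U₁ U₂ : U.Opens} (hcov : U₁ ⊔ U₂ = ⊤) {f f' : U ⟶ X}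
    (h₁ : U₁.ι ≫ f = U₁.ι ≫ f') (h₂ : U₂.ι ≫ f = U₂.ι ≫ f') : f = f' := by
  let Y : Bool → Scheme.{u} := fun i => cond i U₁ U₂
  let o : ∀ i, Y i ⟶ U := fun i => match i with | true => U₁.ι | false => U₂.ι
  haveI ho : ∀ i, IsOpenImmersion (o i) := fun i => by cases i <;> dsimp only [o] <;> infer_instance
  let 𝒰 : U.OpenCover := Scheme.Cover.mkOfCovers (ULift.{u} Bool) (fun i => Y i.down) (fun i => o i.down)
    (fun x => ((show x ∈ U₁ ⊔ U₂ from hcov ▸ trivial) : x ∈ U₁ ∨ x ∈ U₂).elim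
      (fun hx => ⟨⟨true⟩, ⟨x, hx⟩, rfl⟩) fun hx => ⟨⟨false⟩, ⟨x, hx⟩, rfl⟩) fun i => ho i.down
  refine Scheme.Cover.hom_ext 𝒰 _ _ ?_
  rintro ⟨_ | _⟩
  · exact h₂
  · exact h₁

/-- Two compactified opens whose joint closure is covered by good opens give a compactification. -/
theorem exists_compactification_core {U S : Scheme.{u}} [CompactSpace S] [QuasiSeparatedSpace S] (g : U ⟶ S)
    [IsSeparated g] [LocallyOfFiniteType g] [QuasiCompact g] (U₁ U₂ : U.Opens) (hcov : U₁ ⊔ U₂ = ⊤)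
    (hU₁ : IsCompact (U₁ : Set U)) (hU₂ : IsCompact (U₂ : Set U))
    {Y₁ Y₂ : Scheme.{u}} (p₁ : Y₁ ⟶ S) (p₂ : Y₂ ⟶ S) [IsProper p₁] [IsProper p₂]
    (k₁ : (U₁ : Scheme.{u}) ⟶ Y₁) (k₂ : (U₂ : Scheme.{u}) ⟶ Y₂) [IsOpenImmersion k₁] [IsOpenImmersion k₂]
    (hk₁ : k₁ ≫ p₁ = U₁.ι ≫ g) (hk₂ : k₂ ≫ p₂ = U₂.ι ≫ g)
    (G₁ : Y₁.Opens) (G₂ : Y₂.Opens) (hG₁ : IsCompact (G₁ : Set Y₁)) (hG₂ : IsCompact (G₂ : Set Y₂))
    (hkG₁ : Set.range k₁ ⊆ G₁) (hkG₂ : Set.range k₂ ⊆ G₂)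
    (A₁ : Closeds Y₁) (A₂ : Closeds Y₂) (hAG₁ : (A₁ : Set Y₁) ⊆ G₁) (hAG₂ : (A₂ : Set Y₂) ⊆ G₂)
    (hT₁ : ∀ x : U₁, x.1 ∉ U₂ → k₁ x ∈ A₁) (hT₂ : ∀ x : U₂, x.1 ∉ U₁ → k₂ x ∈ A₂)
    (σ : ((U₁ ⊓ U₂ : U.Opens) : Scheme.{u}) ⟶ pullback p₁ p₂)
    (hσ₁ : σ ≫ pullback.fst p₁ p₂ = U.homOfLE inf_le_left ≫ k₁)
    (hσ₂ : σ ≫ pullback.snd p₁ p₂ = U.homOfLE inf_le_right ≫ k₂)
    (hΓ : ∀ z ∈ closure (Set.range σ), pullback.fst p₁ p₂ z ∈ G₁ ∨ pullback.snd p₁ p₂ z ∈ G₂)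
    (hd₁ : ∀ z ∈ closure (Set.range σ), pullback.fst p₁ p₂ z ∈ Set.range k₁ → pullback.snd p₁ p₂ z ∈ G₂ →
      z ∈ Set.range σ)
    (hd₂ : ∀ z ∈ closure (Set.range σ), pullback.snd p₁ p₂ z ∈ Set.range k₂ → pullback.fst p₁ p₂ z ∈ G₁ →
      z ∈ Set.range σ) :
    ∃ (Y : Scheme.{u}) (j : U ⟶ Y) (p : Y ⟶ S), IsOpenImmersion j ∧ QuasiCompact j ∧ IsProper p ∧ j ≫ p = g := by
  haveI : CompactSpace U := QuasiCompact.compactSpace_of_compactSpace g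
  haveI : QuasiSeparatedSpace U := quasiSeparatedSpace_of_quasiSeparated g
  haveI : CompactSpace U₁ := isCompact_iff_compactSpace.mp hU₁
  haveI : CompactSpace U₂ := isCompact_iff_compactSpace.mp hU₂
  haveI : CompactSpace (U₁ ⊓ U₂ : U.Opens) := isCompact_iff_compactSpace.mp
    (QuasiSeparatedSpace.inter_isCompact _ _ U₁.isOpen hU₁ U₂.isOpen hU₂)
  haveI : QuasiSeparatedSpace Y₁ := quasiSeparatedSpace_of_quasiSeparated p₁
  haveI : QuasiSeparatedSpace Y₂ := quasiSeparatedSpace_of_quasiSeparated p₂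
  haveI : CompactSpace G₁ := isCompact_iff_compactSpace.mp hG₁
  haveI : CompactSpace G₂ := isCompact_iff_compactSpace.mp hG₂
  haveI : QuasiCompact (G₁.ι ≫ p₁) := quasiCompact_of_compactSpace _
  haveI : QuasiCompact (G₂.ι ≫ p₂) := quasiCompact_of_compactSpace _
  let K₁ : (U₁ : Scheme.{u}) ⟶ G₁ := IsOpenImmersion.lift G₁.ι k₁ (by rw [Scheme.Opens.range_ι]; exact hkG₁)
  let K₂ : (U₂ : Scheme.{u}) ⟶ G₂ := IsOpenImmersion.lift G₂.ι k₂ (by rw [Scheme.Opens.range_ι]; exact hkG₂)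
  have hK₁ : K₁ ≫ G₁.ι = k₁ := IsOpenImmersion.lift_fac _ _ _
  have hK₂ : K₂ ≫ G₂.ι = k₂ := IsOpenImmersion.lift_fac _ _ _
  haveI : IsOpenImmersion K₁ := by
    haveI : IsOpenImmersion (K₁ ≫ G₁.ι) := by rw [hK₁]; infer_instance
    exact IsOpenImmersion.of_comp K₁ G₁.ι
  haveI : IsOpenImmersion K₂ := by
    haveI : IsOpenImmersion (K₂ ≫ G₂.ι) := by rw [hK₂]; infer_instance
    exact IsOpenImmersion.of_comp K₂ G₂.ι
  let e₁ := U.homOfLE (inf_le_left : U₁ ⊓ U₂ ≤ U₁)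
  let e₂ := U.homOfLE (inf_le_right : U₁ ⊓ U₂ ≤ U₂)
  let σG : ((U₁ ⊓ U₂ : U.Opens) : Scheme.{u}) ⟶ pullback (G₁.ι ≫ p₁) (G₂.ι ≫ p₂) :=
    pullback.lift (e₁ ≫ K₁) (e₂ ≫ K₂) (by
      simp only [Category.assoc, reassoc_of% hK₁, reassoc_of% hK₂, hk₁, hk₂, e₁, e₂, Scheme.homOfLE_ι_assoc])
  let m : pullback (G₁.ι ≫ p₁) (G₂.ι ≫ p₂) ⟶ pullback p₁ p₂ :=
    pullback.map _ _ _ _ G₁.ι G₂.ι (𝟙 S) (Category.comp_id _) (Category.comp_id _)
  have hm₁ : m ≫ pullback.fst p₁ p₂ = pullback.fst _ _ ≫ G₁.ι := pullback.lift_fst _ _ _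
  have hm₂ : m ≫ pullback.snd p₁ p₂ = pullback.snd _ _ ≫ G₂.ι := pullback.lift_snd _ _ _
  haveI : IsOpenImmersion m := inferInstanceAs (IsOpenImmersion (pullback.map _ _ _ _ _ _ _ _ _))
  have hσm : σG ≫ m = σ := by
    refine pullback.hom_ext ?_ ?_
    · rw [Category.assoc, hm₁, pullback.lift_fst_assoc, Category.assoc, hK₁, hσ₁]
    · rw [Category.assoc, hm₂, pullback.lift_snd_assoc, Category.assoc, hK₂, hσ₂]
  have hcl : ∀ z ∈ closure (Set.range σG), m z ∈ closure (Set.range σ) := fun z hz => by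
    refine closure_mono ?_ (image_closure_subset_closure_image m.continuous ⟨z, hz, rfl⟩)
    rintro _ ⟨_, ⟨t, rfl⟩, rfl⟩
    exact ⟨t, by rw [← hσm, Scheme.Hom.comp_apply]⟩
  have hfz : ∀ z, pullback.fst p₁ p₂ (m z) = (pullback.fst (G₁.ι ≫ p₁) (G₂.ι ≫ p₂) z).1 := fun z => by
    rw [← Scheme.Hom.comp_apply, hm₁]; rfl
  have hsz : ∀ z, pullback.snd p₁ p₂ (m z) = (pullback.snd (G₁.ι ≫ p₁) (G₂.ι ≫ p₂) z).1 := fun z => by
    rw [← Scheme.Hom.comp_apply, hm₂]; rfl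
  have hback : ∀ z, m z ∈ Set.range σ → z ∈ Set.range σG := by
    rintro z ⟨t, ht⟩
    exact ⟨t, m.isOpenEmbedding.injective (by rw [← Scheme.Hom.comp_apply, hσm]; exact ht)⟩
  obtain ⟨X, q, Z₁, Z₂, b₁, b₂, o₁, o₂, l₁, l₂, hq, hqft, hqc, hb₁, hb₂, ho₁, ho₂, hq₁, hq₂, hl₁o, hl₂o, hl₁, hl₂,
      hagree, hinj⟩ :=
    exists_glue_pair (G₁.ι ≫ p₁) (G₂.ι ≫ p₂) e₁ e₂ K₁ K₂ σG (pullback.lift_fst _ _ _) (pullback.lift_snd _ _ _)
      (fun z hz ⟨x, hx⟩ => hback z (hd₁ _ (hcl z hz)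
        ⟨x, by rw [hfz, ← hx, ← hK₁]; rfl⟩ (by rw [hsz]; exact (pullback.snd (G₁.ι ≫ p₁) (G₂.ι ≫ p₂) z).2)))
      (fun z hz ⟨x, hx⟩ => hback z (hd₂ _ (hcl z hz)
        ⟨x, by rw [hsz, ← hx, ← hK₂]; rfl⟩ (by rw [hfz]; exact (pullback.fst (G₁.ι ≫ p₁) (G₂.ι ≫ p₂) z).2)))
  obtain ⟨j, hj₁, hj₂⟩ := exists_desc_two hcov (l₁ ≫ o₁) (l₂ ≫ o₂) hagree
  have hjq : j ≫ q = g := by
    refine hom_ext_two hcov ?_ ?_
    · rw [reassoc_of% hj₁, hq₁, reassoc_of% hl₁, reassoc_of% hK₁, hk₁]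
    · rw [reassoc_of% hj₂, hq₂, reassoc_of% hl₂, reassoc_of% hK₂, hk₂]
  haveI : QuasiSeparatedSpace X := quasiSeparatedSpace_of_quasiSeparated q
  haveI : QuasiCompact j := quasiCompact_of_compactSpace j
  have hmem : ∀ x : U, x ∈ U₁ ∨ x ∈ U₂ := fun x => (show x ∈ U₁ ⊔ U₂ from hcov ▸ trivial)
  have hjx₁ : ∀ x : U₁, j x.1 = o₁ (l₁ x) := fun x => by
    rw [← Scheme.Hom.comp_apply, ← hj₁]; rfl
  have hjx₂ : ∀ x : U₂, j x.1 = o₂ (l₂ x) := fun x => by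
    rw [← Scheme.Hom.comp_apply, ← hj₂]; rfl
  haveI := ho₁
  haveI := ho₂
  haveI := hl₁o
  haveI := hl₂o
  haveI : IsOpenImmersion j := by
    refine isOpenImmersion_of_two hcov j (hj₁ ▸ inferInstance) (hj₂ ▸ inferInstance) fun x y hxy => ?_
    have key : ∀ (x : U₁) (y : U₂), j x.1 = j y.1 → x.1 = y.1 := by
      intro x y h
      rw [hjx₁, hjx₂] at h
      obtain ⟨t, h1, h2⟩ := hinj x y h
      rw [← h1, ← h2]
      show ((U.homOfLE _ t : U₁)).1 = ((U.homOfLE _ t : U₂)).1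
      simp
    rcases hmem x with hx | hx <;> rcases hmem y with hy | hy
    · have := (l₁ ≫ o₁).isOpenEmbedding.injective (a₁ := ⟨x, hx⟩) (a₂ := ⟨y, hy⟩)
        (by rw [Scheme.Hom.comp_apply, Scheme.Hom.comp_apply, ← hjx₁, ← hjx₁]; exact hxy)
      exact congrArg Subtype.val this
    · exact key ⟨x, hx⟩ ⟨y, hy⟩ hxy
    · exact (key ⟨y, hy⟩ ⟨x, hx⟩ hxy.symm).symm
    · have := (l₂ ≫ o₂).isOpenEmbedding.injective (a₁ := ⟨x, hx⟩) (a₂ := ⟨y, hy⟩)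
        (by rw [Scheme.Hom.comp_apply, Scheme.Hom.comp_apply, ← hjx₂, ← hjx₂]; exact hxy)
      exact congrArg Subtype.val this
  -- the proper family covering the closure
  haveI : QuasiCompact (σ ≫ pullback.fst p₁ p₂) := by rw [hσ₁]; exact quasiCompact_of_compactSpace _
  haveI : QuasiCompact σ := QuasiCompact.of_comp σ (pullback.fst p₁ p₂)
  let a : σ.image ⟶ S := σ.imageι ≫ pullback.fst p₁ p₂ ≫ p₁
  haveI : IsProper a := inferInstance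
  let τ : ((U₁ ⊓ U₂ : U.Opens) : Scheme.{u}) ⟶ pullback q a :=
    pullback.lift ((U₁ ⊓ U₂ : U.Opens).ι ≫ j) σ.toImage (by
      rw [Category.assoc, hjq]
      show _ = σ.toImage ≫ σ.imageι ≫ pullback.fst p₁ p₂ ≫ p₁
      rw [Scheme.Hom.toImage_imageι_assoc, ← Category.assoc, hσ₁, Category.assoc, hk₁, Scheme.homOfLE_ι_assoc])
  haveI : QuasiSeparatedSpace (pullback q a : Scheme.{u}) :=
    quasiSeparatedSpace_of_quasiSeparated (pullback.fst q a ≫ q)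
  haveI : QuasiCompact τ := quasiCompact_of_compactSpace τ
  haveI : UniversallyClosed (τ.imageι ≫ pullback.snd q a) := by
    let f₁ := σ.imageι ≫ pullback.fst p₁ p₂
    let f₂ := σ.imageι ≫ pullback.snd p₁ p₂
    haveI := hb₁
    haveI := hb₂
    have hfp₂ : f₂ ≫ p₂ = a := by simp only [f₂, a, Category.assoc, pullback.condition]
    have u₁ := universallyClosed_graph_restrict q a τ G₁ f₁ p₁ (Category.assoc _ _ _) b₁ o₁ hq₁ (e₁ ≫ l₁)
      (by rw [pullback.lift_fst, Category.assoc, ← hj₁, Scheme.homOfLE_ι_assoc])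
      (by
        rw [pullback.lift_snd_assoc, Scheme.Hom.toImage_imageι_assoc, hσ₁, Category.assoc, reassoc_of% hl₁, hK₁])
    have u₂ := universallyClosed_graph_restrict q a τ G₂ f₂ p₂ hfp₂ b₂ o₂ hq₂ (e₂ ≫ l₂)
      (by rw [pullback.lift_fst, Category.assoc, ← hj₂, Scheme.homOfLE_ι_assoc])
      (by
        rw [pullback.lift_snd_assoc, Scheme.Hom.toImage_imageι_assoc, hσ₂, Category.assoc, reassoc_of% hl₂, hK₂])
    refine IsZariskiLocalAtTarget.of_iSup_eq_top (P := @UniversallyClosed)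
      (fun i : Bool => cond i (f₁ ⁻¹ᵁ G₁) (f₂ ⁻¹ᵁ G₂)) ?_ fun i => ?_
    · rw [iSup_bool_eq, eq_top_iff]
      intro z _
      exact hΓ _ (imageι_mem_closure σ z)
    · cases i
      · exact u₂
      · exact u₁
  let iA₁ := (Scheme.IdealSheafData.vanishingIdeal A₁).subschemeι
  let iA₂ := (Scheme.IdealSheafData.vanishingIdeal A₂).subschemeι
  let jA₁ : _ ⟶ (G₁ : Scheme.{u}) := IsOpenImmersion.lift G₁.ι iA₁ (by
    rw [Scheme.Opens.range_ι, Scheme.IdealSheafData.range_subschemeι, Scheme.IdealSheafData.coe_support_vanishingIdeal]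
    exact hAG₁)
  let jA₂ : _ ⟶ (G₂ : Scheme.{u}) := IsOpenImmersion.lift G₂.ι iA₂ (by
    rw [Scheme.Opens.range_ι, Scheme.IdealSheafData.range_subschemeι, Scheme.IdealSheafData.coe_support_vanishingIdeal]
    exact hAG₂)
  have hjA₁ : jA₁ ≫ G₁.ι = iA₁ := IsOpenImmersion.lift_fac _ _ _
  have hjA₂ : jA₂ ≫ G₂.ι = iA₂ := IsOpenImmersion.lift_fac _ _ _
  haveI := hb₁
  haveI := hb₂
  let hA₁ : pullback b₁ jA₁ ⟶ X := pullback.fst b₁ jA₁ ≫ o₁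
  let hA₂ : pullback b₂ jA₂ ⟶ X := pullback.fst b₂ jA₂ ≫ o₂
  let hE : τ.image ⟶ X := τ.imageι ≫ pullback.fst q a
  haveI : UniversallyClosed (hE ≫ q) := by
    rw [Category.assoc, pullback.condition, ← Category.assoc]
    infer_instance
  haveI : UniversallyClosed (hA₁ ≫ q) := by
    rw [Category.assoc, hq₁, pullback.condition_assoc, reassoc_of% hjA₁]
    infer_instance
  haveI : UniversallyClosed (hA₂ ≫ q) := by
    rw [Category.assoc, hq₂, pullback.condition_assoc, reassoc_of% hjA₂]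
    infer_instance
  let h := coprod.desc hE (coprod.desc hA₁ hA₂)
  haveI hh : UniversallyClosed (h ≫ q) := by
    rw [show h ≫ q = coprod.desc (hE ≫ q) (coprod.desc (hA₁ ≫ q) (hA₂ ≫ q)) by ext <;> simp [h]]
    haveI := Groth.Agent.PushLib.universallyClosed_coprodDesc (hA₁ ≫ q) (hA₂ ≫ q)
    exact Groth.Agent.PushLib.universallyClosed_coprodDesc _ _
  haveI : UniversallyClosed h :=
    MorphismProperty.of_postcomp (W := @UniversallyClosed) (W' := @IsSeparated) h q hq hh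
  have hrange : closure (Set.range j) ⊆ Set.range h := by
    refine closure_minimal ?_ h.isClosedMap.isClosed_range
    rintro _ ⟨x, rfl⟩
    by_cases hx₁ : x ∈ U₁
    · by_cases hx₂ : x ∈ U₂
      · let t : (U₁ ⊓ U₂ : U.Opens) := ⟨x, hx₁, hx₂⟩
        refine ⟨(coprod.inl : τ.image ⟶ _) (τ.toImage t), ?_⟩
        rw [← Scheme.Hom.comp_apply, coprod.inl_desc, ← Scheme.Hom.comp_apply, Scheme.Hom.toImage_imageι_assoc,
          pullback.lift_fst, Scheme.Hom.comp_apply]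
        rfl
      · obtain ⟨y, hy⟩ : k₁ ⟨x, hx₁⟩ ∈ Set.range iA₁ := by
          rw [Scheme.IdealSheafData.range_subschemeι, Scheme.IdealSheafData.coe_support_vanishingIdeal]
          exact hT₁ ⟨x, hx₁⟩ hx₂
        have hby : b₁ (l₁ ⟨x, hx₁⟩) = jA₁ y := by
          refine G₁.ι.isOpenEmbedding.injective ?_
          rw [← Scheme.Hom.comp_apply jA₁, hjA₁, hy, ← Scheme.Hom.comp_apply l₁, hl₁, ← Scheme.Hom.comp_apply, hK₁]
        obtain ⟨p, hp, -⟩ := Scheme.Pullback.exists_preimage_pullback (f := b₁) (g := jA₁) _ y hby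
        refine ⟨(coprod.inr : _ ⟶ τ.image ⨿ _) ((coprod.inl : _ ⟶ pullback b₁ jA₁ ⨿ pullback b₂ jA₂) p), ?_⟩
        rw [← Scheme.Hom.comp_apply, coprod.inr_desc, ← Scheme.Hom.comp_apply, coprod.inl_desc,
          Scheme.Hom.comp_apply, hp, ← hjx₁ ⟨x, hx₁⟩]
    · have hx₂ : x ∈ U₂ := (hmem x).resolve_left hx₁
      obtain ⟨y, hy⟩ : k₂ ⟨x, hx₂⟩ ∈ Set.range iA₂ := by
        rw [Scheme.IdealSheafData.range_subschemeι, Scheme.IdealSheafData.coe_support_vanishingIdeal]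
        exact hT₂ ⟨x, hx₂⟩ hx₁
      have hby : b₂ (l₂ ⟨x, hx₂⟩) = jA₂ y := by
        refine G₂.ι.isOpenEmbedding.injective ?_
        rw [← Scheme.Hom.comp_apply jA₂, hjA₂, hy, ← Scheme.Hom.comp_apply l₂, hl₂, ← Scheme.Hom.comp_apply, hK₂]
      obtain ⟨p, hp, -⟩ := Scheme.Pullback.exists_preimage_pullback (f := b₂) (g := jA₂) _ y hby
      refine ⟨(coprod.inr : _ ⟶ τ.image ⨿ _) ((coprod.inr : _ ⟶ pullback b₁ jA₁ ⨿ pullback b₂ jA₂) p), ?_⟩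
      rw [← Scheme.Hom.comp_apply, coprod.inr_desc, ← Scheme.Hom.comp_apply, coprod.inr_desc,
        Scheme.Hom.comp_apply, hp, ← hjx₂ ⟨x, hx₂⟩]
  haveI : IsProper (j.imageι ≫ q) := isProper_imageι_comp j q h hrange
  haveI : QuasiSeparatedSpace j.image := quasiSeparatedSpace_of_quasiSeparated j.imageι
  exact ⟨j.image, j.toImage, j.imageι ≫ q, isOpenImmersion_toImage j (𝟙 X) j (Category.comp_id _),
    quasiCompact_of_compactSpace _, inferInstance, by rw [Scheme.Hom.toImage_imageι_assoc, hjq]⟩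

end NagataCompLib
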