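import Groth.Agent.NagataCompLib.Side
import Groth.Agent.PushLib.Over

/-!
# Closures and universally closed maps for gluing compactifications
-/

set_option autoImplicit false
universe u
open CategoryTheory CategoryTheory.Limits AlgebraicGeometry TopologicalSpace

namespace NagataCompLib

theorem quasiCompact_of_compactSpace {X Y : Scheme.{u}} (f : X ⟶ Y) [CompactSpace X] [QuasiSeparatedSpace Y] :
    QuasiCompact f := by
  haveI : QuasiCompact (f ≫ Y.toSpecΓ) := by rw [Scheme.toSpecΓ_naturality]; infer_instance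
  exact QuasiCompact.of_comp f Y.toSpecΓ

/-- The closure of a scheme theoretic image. -/
theorem range_imageι {X Y : Scheme.{u}} (f : X ⟶ Y) [QuasiCompact f] :
    Set.range f.imageι = closure (Set.range f) := by
  rw [Scheme.Hom.imageι, Scheme.IdealSheafData.range_subschemeι, Scheme.Hom.support_ker]

theorem imageι_mem_closure {X Y : Scheme.{u}} (f : X ⟶ Y) [QuasiCompact f] (z : f.image) :
    f.imageι z ∈ closure (Set.range f) := (range_imageι f).le ⟨z, rfl⟩

section proper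

variable {M Γ D : Scheme.{u}} (π : M ⟶ Γ) [IsSeparated π] (O : Γ.Opens) (θ : D ⟶ M) (d : D ⟶ O) [IsProper d]

/-- A family proper over an open contains the closure of what it contains over that open. -/
theorem closure_subset_range (hd : θ ≫ π = d ≫ O.ι) (T : Set M)
    (hT : ∀ x ∈ T, π x ∈ O → x ∈ Set.range θ) {x : M} (hx : x ∈ closure T) (hxO : π x ∈ O) :
    x ∈ Set.range θ := by
  have hmem : Set.range θ ⊆ Set.range (π ⁻¹ᵁ O).ι := by
    rintro _ ⟨y, rfl⟩
    rw [Scheme.Opens.range_ι]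
    show π (θ y) ∈ O
    rw [← Scheme.Hom.comp_apply, hd]
    exact (d y).2
  let θ' : D ⟶ (π ⁻¹ᵁ O : M.Opens) := IsOpenImmersion.lift _ θ hmem
  have hθ : θ' ≫ (π ⁻¹ᵁ O).ι = θ := IsOpenImmersion.lift_fac _ _ _
  have e : θ' ≫ (π ∣_ O) = d := by rw [← cancel_mono O.ι, Category.assoc, morphismRestrict_ι, reassoc_of% hθ, hd]
  haveI : IsSeparated (π ∣_ O) := IsZariskiLocalAtTarget.restrict (P := @IsSeparated) ‹_› O
  haveI : IsProper (θ' ≫ (π ∣_ O)) := by rw [e]; infer_instance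
  haveI : IsProper θ' := IsProper.of_comp θ' (π ∣_ O)
  have hcl : IsClosed (Set.range θ') := θ'.isClosedMap.isClosed_range
  obtain ⟨y, hy⟩ := (hcl.closure_subset_iff (s := Subtype.val ⁻¹' T)).mpr
    (by
      intro w hw
      obtain ⟨y, hy⟩ := hT w.1 hw w.2
      refine ⟨y, (π ⁻¹ᵁ O).ι.isOpenEmbedding.injective ?_⟩
      rw [← Scheme.Hom.comp_apply, hθ]
      exact hy)
    (show (⟨x, hxO⟩ : (π ⁻¹ᵁ O : M.Opens)) ∈ closure (Subtype.val ⁻¹' T) from by
      refine closure_subtype.mpr (closure_mono ?_ ((π ⁻¹ᵁ O).isOpen.inter_closure ⟨hxO, hx⟩))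
      exact fun y hy => ⟨⟨y, hy.1⟩, hy.2, rfl⟩)
  refine ⟨y, ?_⟩
  rw [← hθ, Scheme.Hom.comp_apply, hy]
  rfl

/-- An image is universally closed over an open over which a proper family contains it. -/
theorem universallyClosed_restrict {U : Scheme.{u}} (τ : U ⟶ M) [QuasiCompact τ] (hd : θ ≫ π = d ≫ O.ι)
    (hT : ∀ x, π (τ x) ∈ O → τ x ∈ Set.range θ) : UniversallyClosed ((τ.imageι ≫ π) ∣_ O) := by
  let P := pullback θ τ.imageι
  have hr : Set.range (pullback.snd θ τ.imageι) ⊆ Set.range ((τ.imageι ≫ π) ⁻¹ᵁ O).ι := by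
    rintro _ ⟨y, rfl⟩
    rw [Scheme.Opens.range_ι]
    show (τ.imageι ≫ π) (pullback.snd θ τ.imageι y) ∈ O
    rw [← Scheme.Hom.comp_apply, ← pullback.condition_assoc, hd, Scheme.Hom.comp_apply, Scheme.Hom.comp_apply]
    exact (d _).2
  let a : P ⟶ ((τ.imageι ≫ π) ⁻¹ᵁ O : τ.image.Opens) := IsOpenImmersion.lift _ _ hr
  have ha : a ≫ ((τ.imageι ≫ π) ⁻¹ᵁ O).ι = pullback.snd θ τ.imageι := IsOpenImmersion.lift_fac _ _ _
  have e : a ≫ ((τ.imageι ≫ π) ∣_ O) = pullback.fst θ τ.imageι ≫ d := by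
    rw [← cancel_mono O.ι, Category.assoc, morphismRestrict_ι, reassoc_of% ha, Category.assoc, ← hd,
      pullback.condition_assoc]
  haveI : UniversallyClosed (a ≫ ((τ.imageι ≫ π) ∣_ O)) := by rw [e]; infer_instance
  haveI : Surjective a := ⟨fun z => by
    obtain ⟨y, hy⟩ := closure_subset_range π O θ d hd (Set.range τ)
      (by rintro _ ⟨x, rfl⟩ hx; exact hT x hx) (imageι_mem_closure τ z.1) z.2
    obtain ⟨p, -, hp⟩ := Scheme.Pullback.exists_preimage_pullback (f := θ) (g := τ.imageι) y z.1 hy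
    refine ⟨p, Subtype.ext ?_⟩
    have h := congrArg (fun t : P ⟶ τ.image => t p) ha
    exact h.trans hp⟩
  exact UniversallyClosed.of_comp_surjective a _

end proper

/-- The closure of the image of a scheme covered by a universally closed family is proper. -/
theorem isProper_imageι_comp {U X P S : Scheme.{u}} (j : U ⟶ X) [QuasiCompact j] (q : X ⟶ S) [IsSeparated q]
    [LocallyOfFiniteType q] [QuasiCompact q] (h : P ⟶ X) [UniversallyClosed (h ≫ q)]
    (hj : closure (Set.range j) ⊆ Set.range h) : IsProper (j.imageι ≫ q) := by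
  haveI : UniversallyClosed (pullback.snd h j.imageι ≫ j.imageι ≫ q) := by
    rw [← pullback.condition_assoc]
    haveI : UniversallyClosed (pullback.fst h j.imageι) := inferInstance
    infer_instance
  haveI : Surjective (pullback.snd h j.imageι) := ⟨fun z => by
    obtain ⟨y, hy⟩ := hj (imageι_mem_closure j z)
    obtain ⟨p, -, hp⟩ := Scheme.Pullback.exists_preimage_pullback (f := h) (g := j.imageι) y z hy
    exact ⟨p, hp⟩⟩
  haveI : UniversallyClosed (j.imageι ≫ q) := UniversallyClosed.of_comp_surjective (pullback.snd h j.imageι) _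
  exact IsProper.mk

/-- An open immersion is an open immersion into its scheme theoretic image. -/
theorem isOpenImmersion_toImage {U X W : Scheme.{u}} (s : U ⟶ X) [QuasiCompact s] (f : X ⟶ W) [IsSeparated f]
    (u : U ⟶ W) [IsOpenImmersion u] (hs : s ≫ f = u) : IsOpenImmersion s.toImage := by
  haveI := RGFlatLib.isIso_image_of_section s f u hs
  have h0 : s.toImage ≫ s.imageι ≫ f = u := by rw [Scheme.Hom.toImage_imageι_assoc, hs]
  have e : s.toImage = u.isoOpensRange.hom ≫ inv ((s.imageι ≫ f) ∣_ u.opensRange) ≫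
      ((s.imageι ≫ f) ⁻¹ᵁ u.opensRange).ι := by
    refine ModPairLib.eq_of_isIso_restrict (s := s.imageι ≫ f) (V := u.opensRange) ?_ fun w => ?_
    · rw [h0]
      simp only [Category.assoc]
      rw [← morphismRestrict_ι, IsIso.inv_hom_id_assoc]
      simp [Scheme.Hom.isoOpensRange]
    · exact ⟨w, by rw [← Scheme.Hom.comp_apply s.toImage, h0]⟩
  rw [e]; infer_instance

/-- Morphisms on two opens agreeing on their intersection glue. -/
theorem exists_desc_two {U X : Scheme.{u}} {U₁ U₂ : U.Opens} (hcov : U₁ ⊔ U₂ = ⊤)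
    (f₁ : (U₁ : Scheme.{u}) ⟶ X) (f₂ : (U₂ : Scheme.{u}) ⟶ X)
    (h : U.homOfLE (inf_le_left : U₁ ⊓ U₂ ≤ U₁) ≫ f₁ = U.homOfLE (inf_le_right : U₁ ⊓ U₂ ≤ U₂) ≫ f₂) :
    ∃ f : U ⟶ X, U₁.ι ≫ f = f₁ ∧ U₂.ι ≫ f = f₂ := by
  let Y : Bool → Scheme.{u} := fun i => cond i U₁ U₂
  let o : ∀ i, Y i ⟶ U := fun i => match i with | true => U₁.ι | false => U₂.ι
  let fs : ∀ i, Y i ⟶ X := fun i => match i with | true => f₁ | false => f₂
  haveI ho : ∀ i, IsOpenImmersion (o i) := fun i => by cases i <;> dsimp only [o] <;> infer_instance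
  let 𝒰 : U.OpenCover := Scheme.Cover.mkOfCovers (ULift.{u} Bool) (fun i => Y i.down) (fun i => o i.down)
    (fun x => ((show x ∈ U₁ ⊔ U₂ from hcov ▸ trivial) : x ∈ U₁ ∨ x ∈ U₂).elim
      (fun hx => ⟨⟨true⟩, ⟨x, hx⟩, rfl⟩) fun hx => ⟨⟨false⟩, ⟨x, hx⟩, rfl⟩) fun i => ho i.down
  have hswap : pullback.fst U₁.ι U₂.ι ≫ f₁ = pullback.snd U₁.ι U₂.ι ≫ f₂ := by
    have hr : Set.range (pullback.fst U₁.ι U₂.ι ≫ U₁.ι) ⊆ Set.range (U₁ ⊓ U₂).ι := by
      rintro _ ⟨y, rfl⟩
      rw [Scheme.Opens.range_ι]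
      refine ⟨(pullback.fst U₁.ι U₂.ι y).2, ?_⟩
      rw [pullback.condition]
      exact (pullback.snd U₁.ι U₂.ι y).2
    let l := IsOpenImmersion.lift (U₁ ⊓ U₂).ι _ hr
    have hl : l ≫ (U₁ ⊓ U₂).ι = pullback.fst U₁.ι U₂.ι ≫ U₁.ι := IsOpenImmersion.lift_fac _ _ _
    have e₁ : l ≫ U.homOfLE (inf_le_left : U₁ ⊓ U₂ ≤ U₁) = pullback.fst U₁.ι U₂.ι := by
      rw [← cancel_mono U₁.ι, Category.assoc, Scheme.homOfLE_ι, hl]
    have e₂ : l ≫ U.homOfLE (inf_le_right : U₁ ⊓ U₂ ≤ U₂) = pullback.snd U₁.ι U₂.ι := by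
      rw [← cancel_mono U₂.ι, Category.assoc, Scheme.homOfLE_ι, hl, pullback.condition]
    rw [← e₁, ← e₂, Category.assoc, Category.assoc, h]
  refine ⟨Scheme.Cover.glueMorphisms 𝒰 (fun i => fs i.down) ?_,
    Scheme.Cover.ι_glueMorphisms 𝒰 (fun i => fs i.down) _ ⟨true⟩,
    Scheme.Cover.ι_glueMorphisms 𝒰 (fun i => fs i.down) _ ⟨false⟩⟩
  intro a b
  rcases a with ⟨_ | _⟩ <;> rcases b with ⟨_ | _⟩
  · exact congrArg (· ≫ f₂) (fst_eq_snd_of_mono_eq (f := U₂.ι))
  · show pullback.fst U₂.ι U₁.ι ≫ f₂ = pullback.snd U₂.ι U₁.ι ≫ f₁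
    rw [← pullbackSymmetry_hom_comp_snd U₂.ι U₁.ι, ← pullbackSymmetry_hom_comp_fst U₂.ι U₁.ι, Category.assoc,
      Category.assoc, hswap]
  · exact hswap
  · exact congrArg (· ≫ f₁) (fst_eq_snd_of_mono_eq (f := U₁.ι))

/-- A morphism which is injective and an open immersion on two opens covering the source is an open immersion. -/
theorem isOpenImmersion_of_two {U X : Scheme.{u}} {U₁ U₂ : U.Opens} (hcov : U₁ ⊔ U₂ = ⊤) (f : U ⟶ X)
    (h₁ : IsOpenImmersion (U₁.ι ≫ f)) (h₂ : IsOpenImmersion (U₂.ι ≫ f)) (hf : Function.Injective f) :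
    IsOpenImmersion f := by
  refine IsOpenImmersion.of_forall_source_exists f hf fun x => ?_
  rcases (show x ∈ U₁ ∨ x ∈ U₂ from (show x ∈ U₁ ⊔ U₂ from hcov ▸ trivial)) with hx | hx
  · exact ⟨_, U₁.ι, inferInstance, by rw [Scheme.Opens.opensRange_ι]; exact hx, h₁⟩
  · exact ⟨_, U₂.ι, inferInstance, by rw [Scheme.Opens.opensRange_ι]; exact hx, h₂⟩

end NagataCompLib
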