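import Groth.Agent.NagataCompLib.Nagata

/-!
# Compactifications with dense interior or Cartier boundary
-/

set_option autoImplicit false
universe u
open CategoryTheory CategoryTheory.Limits AlgebraicGeometry TopologicalSpace

namespace NagataCompLib

/-- The map to the scheme theoretic image has dense range. -/
theorem denseRange_toImage {X Y : Scheme.{u}} (f : X ⟶ Y) [QuasiCompact f] : DenseRange f.toImage := by
  rw [DenseRange, dense_iff_closure_eq, f.imageι.isEmbedding.closure_eq_preimage_closure_image, ← Set.range_comp,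
    ← TopCat.coe_comp, ← Scheme.Hom.comp_base, f.toImage_imageι, ← range_imageι f, Set.preimage_range]

/-- A compactification with dense range. -/
theorem exists_dense_compactification {X S : Scheme.{u}} (f : X ⟶ S) [CompactSpace S] [QuasiSeparatedSpace S]
    [IsSeparated f] [QuasiCompact f] [LocallyOfFiniteType f] :
    ∃ (Y : Scheme.{u}) (j : X ⟶ Y) (p : Y ⟶ S), IsOpenImmersion j ∧ QuasiCompact j ∧ IsProper p ∧ DenseRange j ∧
      j ≫ p = f := by
  obtain ⟨Y, j, p, hj, hjq, hp, e⟩ := exists_compactification f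
  haveI := hj
  haveI := hjq
  haveI := hp
  haveI : QuasiSeparatedSpace Y := quasiSeparatedSpace_of_quasiSeparated p
  haveI : CompactSpace X := QuasiCompact.compactSpace_of_compactSpace f
  haveI : QuasiSeparatedSpace j.image := quasiSeparatedSpace_of_quasiSeparated j.imageι
  exact ⟨j.image, j.toImage, j.imageι ≫ p, inferInstance, quasiCompact_of_compactSpace _, inferInstance,
    denseRange_toImage j, by rw [Scheme.Hom.toImage_imageι_assoc, e]⟩

/-- Blow up the boundary of a quasi-compact open into a Cartier divisor. -/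
theorem exists_cartier_boundary {X Y : Scheme.{u}} [CompactSpace Y] [QuasiSeparatedSpace Y] (j : X ⟶ Y)
    [IsOpenImmersion j] [CompactSpace X] :
    ∃ (Y' : Scheme.{u}) (b : Y' ⟶ Y) (j' : X ⟶ Y') (E : Y'.IdealSheafData), IsProper b ∧ IsOpenImmersion j' ∧
      j' ≫ b = j ∧ BlowUp.IsEffCartierIdeal E ∧ (E.support : Set Y') = (Set.range j')ᶜ := by
  have hU : IsCompact (j.opensRange : Set Y) := by
    rw [Scheme.Hom.coe_opensRange]; exact isCompact_range j.continuous
  obtain ⟨I, hI, hIs⟩ := MiscFlat6.exists_finiteType_idealSheaf j.opensRange hU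
  have ha : BlowUp.IsAdmissibleFor j.opensRange I := ⟨hI, by rw [hIs]; exact disjoint_compl_left⟩
  obtain ⟨W, b, hb⟩ := BlowUpLib.exists_isBlowUp Y I
  haveI := isIso_restrict_of_admissible hb ha
  let l : X ⟶ W := j.isoOpensRange.hom ≫ inv (b ∣_ j.opensRange) ≫ (b ⁻¹ᵁ j.opensRange).ι
  have hl : l ≫ b = j := by
    simp only [l, Category.assoc]
    rw [← morphismRestrict_ι, IsIso.inv_hom_id_assoc]
    simp [Scheme.Hom.isoOpensRange]
  obtain ⟨hlo, hlr⟩ := isOpenImmersion_lift j b inferInstance l hl
  refine ⟨W, b, l, I.comap b, BlowUpLib.isProper_of_isBlowUp hb hI, hlo, hl, hb.1, ?_⟩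
  rw [Scheme.IdealSheafData.support_comap, hlr]
  show b ⁻¹' (I.support : Set Y) = _
  rw [hIs, Scheme.Hom.coe_opensRange, Set.preimage_compl]

end NagataCompLib
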