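import Groth.Agent.NagataCompLib.Piece

/-!
# Linking two compactified opens
-/

set_option autoImplicit false
universe u
open CategoryTheory CategoryTheory.Limits AlgebraicGeometry TopologicalSpace

namespace NagataCompLib

variable {U S : Scheme.{u}} {g : U ⟶ S} {U₁ U₂ : U.Opens}

/-- The common open sits in the proper neighbourhood of the second piece over the first open. -/
theorem exists_lift_dom (d₂ : Piece g U₂) {V : Scheme.{u}} (e₁ : V ⟶ U₁) (e₂ : V ⟶ U₂)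
    (he : e₁ ≫ U₁.ι = e₂ ≫ U₂.ι) :
    ∃ k : V ⟶ (d₂.h ⁻¹ᵁ U₁ : (d₂.dom : Scheme.{u}).Opens),
      k ≫ (d₂.h ⁻¹ᵁ U₁).ι = e₂ ≫ d₂.k ∧ k ≫ (d₂.h ∣_ U₁) = e₁ := by
  have hh : (e₂ ≫ d₂.k) ≫ d₂.h = e₁ ≫ U₁.ι := by rw [Category.assoc, d₂.k_h, he]
  have hr : Set.range (e₂ ≫ d₂.k) ⊆ Set.range (d₂.h ⁻¹ᵁ U₁).ι := by
    rintro _ ⟨t, rfl⟩
    rw [Scheme.Opens.range_ι]
    show d₂.h ((e₂ ≫ d₂.k) t) ∈ U₁
    rw [← Scheme.Hom.comp_apply, hh]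
    exact (e₁ t).2
  refine ⟨IsOpenImmersion.lift _ _ hr, IsOpenImmersion.lift_fac _ _ _, ?_⟩
  rw [← cancel_mono U₁.ι, Category.assoc, morphismRestrict_ι, IsOpenImmersion.lift_fac_assoc]
  exact hh

/-- Over the first open, the joint closure lies on the graph of the second neighbourhood. -/
theorem mem_range_of_notMem_C (d₁ : Piece g U₁) (d₂ : Piece g U₂) {P : Scheme.{u}} {f₁ : P ⟶ d₁.Y} {f₂ : P ⟶ d₂.Y}
    (hP : IsPullback f₁ f₂ d₁.p d₂.p) {V : Scheme.{u}} (σ : V ⟶ P) (e₁ : V ⟶ U₁) (e₂ : V ⟶ U₂)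
    (he : e₁ ≫ U₁.ι = e₂ ≫ U₂.ι) (he' : ∀ x : U₂, x.1 ∈ U₁ → ∃ t, e₂ t = x)
    (hσ₁ : σ ≫ f₁ = e₁ ≫ d₁.j) (hσ₂ : σ ≫ f₂ = e₂ ≫ d₂.j) {z : P} (hz : z ∈ closure (Set.range σ))
    (h₁ : f₁ z ∈ Set.range d₁.j) (h₂ : f₂ z ∉ d₂.C) : z ∈ Set.range σ := by
  obtain ⟨k, hkι, hkh⟩ := exists_lift_dom d₂ e₁ e₂ he
  haveI : IsSeparated f₁ := MorphismProperty.of_isPullback hP.flip (inferInstance : IsSeparated d₂.p)
  haveI : IsProper (d₂.h ∣_ U₁) := IsZariskiLocalAtTarget.restrict (P := @IsProper) inferInstance U₁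
  let θ : ((d₂.h ⁻¹ᵁ U₁ : (d₂.dom : Scheme.{u}).Opens) : Scheme.{u}) ⟶ P :=
    hP.lift ((d₂.h ∣_ U₁) ≫ d₁.j) ((d₂.h ⁻¹ᵁ U₁).ι ≫ d₂.dom.ι) (by
      rw [Category.assoc, d₁.j_w, morphismRestrict_ι_assoc, Category.assoc, d₂.h_w])
  have hθk : k ≫ θ = σ := hP.hom_ext
    (by rw [Category.assoc, hP.lift_fst, reassoc_of% hkh, hσ₁])
    (by rw [Category.assoc, hP.lift_snd, reassoc_of% hkι, hσ₂]; rfl)
  obtain ⟨v, hv⟩ := closure_subset_range f₁ d₁.j.opensRange θ ((d₂.h ∣_ U₁) ≫ d₁.j.isoOpensRange.hom)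
    (by rw [hP.lift_fst]; simp [Scheme.Hom.isoOpensRange])
    (Set.range σ) (by rintro _ ⟨t, rfl⟩ -; exact ⟨k t, by rw [← Scheme.Hom.comp_apply, hθk]⟩) hz h₁
  have hz₂ : f₂ z = d₂.dom.ι v.1 := by
    rw [← hv, ← Scheme.Hom.comp_apply, hP.lift_snd]
    rfl
  have hv₂ : d₂.h v.1 ∈ U₂ := by
    by_contra hc
    exact h₂ (hz₂ ▸ subset_closure ⟨v.1, hc, rfl⟩)
  obtain ⟨x, hx⟩ := d₂.range_k v.1 hv₂
  obtain ⟨t, rfl⟩ := he' x (by
    have h := d₂.h_k x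
    rw [hx] at h
    rw [← h]
    exact v.2)
  refine ⟨t, ?_⟩
  rw [← hv, ← hθk, Scheme.Hom.comp_apply]
  congr 1
  refine (d₂.h ⁻¹ᵁ U₁).ι.isOpenEmbedding.injective ?_
  rw [← Scheme.Hom.comp_apply, hkι]
  exact hx

/-- After modifying the second compactification, wherever the joint closure lies over the far part of its
neighbourhood it lies over the closure of the far part of the first open. -/
theorem exists_piece_linked [CompactSpace S] [QuasiSeparatedSpace S] [IsSeparated g] [LocallyOfFiniteType g]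
    [QuasiCompact g] (hcov : U₁ ⊔ U₂ = ⊤) (hU₁ : IsCompact (U₁ : Set U)) (d₁ : Piece g U₁) (d₂ : Piece g U₂)
    (hsep : Disjoint (d₂.A U₁ : Set d₂.Y) d₂.C) :
    ∃ d : Piece g U₂, Disjoint (d.A U₁ : Set d.Y) d.C ∧
      ∀ (σ : ((U₁ ⊓ U₂ : U.Opens) : Scheme.{u}) ⟶ pullback d₁.p d.p),
        σ ≫ pullback.fst d₁.p d.p = U.homOfLE inf_le_left ≫ d₁.j →
        σ ≫ pullback.snd d₁.p d.p = U.homOfLE inf_le_right ≫ d.j →
        ∀ z ∈ closure (Set.range σ), pullback.snd d₁.p d.p z ∈ d.C → pullback.fst d₁.p d.p z ∈ d₁.A U₂ := by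
  haveI : CompactSpace U := QuasiCompact.compactSpace_of_compactSpace g
  haveI : CompactSpace d₂.Y := QuasiCompact.compactSpace_of_compactSpace d₂.p
  haveI : QuasiSeparatedSpace d₂.Y := quasiSeparatedSpace_of_quasiSeparated d₂.p
  have hmem : ∀ x : U, x ∈ U₁ ∨ x ∈ U₂ := fun x => (show x ∈ U₁ ⊔ U₂ from hcov ▸ trivial)
  let W₂ : (d₂.dom : Scheme.{u}).Opens := d₂.h ⁻¹ᵁ U₁
  haveI : CompactSpace W₂ := isCompact_iff_compactSpace.mp (d₂.h.isCompact_preimage hU₁)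
  let u : (W₂ : Scheme.{u}) ⟶ d₂.Y := W₂.ι ≫ d₂.dom.ι
  let w : (W₂ : Scheme.{u}) ⟶ d₁.Y := (d₂.h ∣_ U₁) ≫ d₁.j
  let σ₂ : (W₂ : Scheme.{u}) ⟶ pullback d₁.p d₂.p := pullback.lift w u (by
    simp only [w, u, Category.assoc, d₁.j_w, morphismRestrict_ι_assoc, d₂.h_w]; rfl)
  have hσu : σ₂ ≫ pullback.snd d₁.p d₂.p = u := pullback.lift_snd _ _ _
  haveI : QuasiCompact (σ₂ ≫ pullback.snd d₁.p d₂.p) := by rw [hσu]; exact quasiCompact_of_compactSpace _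
  haveI : QuasiCompact σ₂ := QuasiCompact.of_comp σ₂ (pullback.snd d₁.p d₂.p)
  let q : σ₂.image ⟶ d₂.Y := σ₂.imageι ≫ pullback.snd d₁.p d₂.p
  haveI : IsProper q := inferInstance
  have hq : IsIso (q ∣_ u.opensRange) := RGFlatLib.isIso_image_of_section σ₂ _ u hσu
  let T : Set d₂.Y := d₂.dom.ι '' {v | d₂.h v ∉ U₂}
  have hTV : T ⊆ d₂.dom := by rintro _ ⟨v, -, rfl⟩; exact v.2
  have hT : IsClosed (Subtype.val ⁻¹' T : Set d₂.dom) := by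
    have e : (Subtype.val ⁻¹' T : Set d₂.dom) = d₂.h ⁻¹' (U₂ : Set U)ᶜ := by
      ext v
      constructor
      · rintro ⟨v', hv', hvv⟩
        obtain rfl : v' = v := Subtype.ext hvv
        exact hv'
      · intro hv
        exact ⟨v, hv, rfl⟩
    rw [e]
    exact U₂.isOpen.isClosed_compl.preimage d₂.h.continuous
  have hTW : T ⊆ u.opensRange := by
    rintro _ ⟨v, hv, rfl⟩
    exact ⟨⟨v, (hmem _).resolve_right hv⟩, rfl⟩
  obtain ⟨K, Y', b, hb, ha, hall⟩ := RGFlatLib.exists_iso_near_closure q d₂.dom d₂.isCompact_dom T hTV hT hTW hq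
  haveI := BlowUpLib.isProper_of_isBlowUp hb ha.1
  have hi := isIso_restrict_of_admissible hb ha
  obtain ⟨𝒥, h𝒥⟩ := RGFlatLib.exists_strictIdeal hb.1 (pullback.snd q b)
  obtain ⟨W', hW', hiso⟩ := hall _ _ _ (IsPullback.of_hasPullback q b) 𝒥 h𝒥
  let j' : (U₂ : Scheme.{u}) ⟶ Y' := (d₂.pull b hi).j
  have hj' : j' ≫ b = d₂.j := d₂.pull_j_comp b hi
  let C' : Set Y' := ((d₂.pull b hi).C : Set (d₂.pull b hi).Y)
  have hC' : C' ⊆ closure (b ⁻¹' T) := d₂.pull_C_subset b hi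
  refine ⟨d₂.pull b hi, d₂.disjoint_pull b hi U₁ hsep, ?_⟩
  show ∀ (σ : ((U₁ ⊓ U₂ : U.Opens) : Scheme.{u}) ⟶ pullback d₁.p (b ≫ d₂.p)),
    σ ≫ pullback.fst d₁.p (b ≫ d₂.p) = U.homOfLE inf_le_left ≫ d₁.j →
    σ ≫ pullback.snd d₁.p (b ≫ d₂.p) = U.homOfLE inf_le_right ≫ j' →
    ∀ z ∈ closure (Set.range σ), pullback.snd d₁.p (b ≫ d₂.p) z ∈ C' → pullback.fst d₁.p (b ≫ d₂.p) z ∈ d₁.A U₂
  intro σ hσ₁ hσ₂ z hz hzC
  let p' := b ≫ d₂.p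
  have hσb : σ ≫ pullback.snd d₁.p p' ≫ b = U.homOfLE (inf_le_right : U₁ ⊓ U₂ ≤ U₂) ≫ d₂.j := by
    rw [reassoc_of% hσ₂, hj']
  let r : (W' : Scheme.{u}) ⟶ σ₂.image :=
    @inv _ _ _ _ _ hiso ≫ ((𝒥.subschemeι ≫ pullback.snd q b) ⁻¹ᵁ W').ι ≫ 𝒥.subschemeι ≫ pullback.fst q b
  have hrq : r ≫ q = W'.ι ≫ b := by
    simp only [r, Category.assoc, pullback.condition]
    rw [← Category.assoc 𝒥.subschemeι, ← morphismRestrict_ι_assoc, IsIso.inv_hom_id_assoc]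
  let r₁ : (W' : Scheme.{u}) ⟶ d₁.Y := r ≫ σ₂.imageι ≫ pullback.fst d₁.p d₂.p
  let θ : (W' : Scheme.{u}) ⟶ pullback d₁.p p' := pullback.lift r₁ W'.ι (by
    show r₁ ≫ d₁.p = W'.ι ≫ b ≫ d₂.p
    rw [← reassoc_of% hrq]
    simp only [r₁, q, Category.assoc, pullback.condition])
  have hθ₁ : θ ≫ pullback.fst d₁.p p' = r₁ := pullback.lift_fst _ _ _
  have hθ₂ : θ ≫ pullback.snd d₁.p p' = W'.ι := pullback.lift_snd _ _ _
  obtain ⟨k, hkι, hkh⟩ := exists_lift_dom d₂ (U.homOfLE (inf_le_left : U₁ ⊓ U₂ ≤ U₁))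
    (U.homOfLE (inf_le_right : U₁ ⊓ U₂ ≤ U₂)) (by rw [Scheme.homOfLE_ι, Scheme.homOfLE_ι])
  have hθσ : ∀ t, (σ ≫ pullback.snd d₁.p p') t ∈ W' → σ t ∈ Set.range θ := by
    intro t ht
    let V' := (σ ≫ pullback.snd d₁.p p') ⁻¹ᵁ W'
    let s : (V' : Scheme.{u}) ⟶ (W' : Scheme.{u}) := (σ ≫ pullback.snd d₁.p p') ∣_ W'
    have e : s ≫ r = V'.ι ≫ k ≫ σ₂.toImage := by
      haveI := hq
      refine ModPairLib.eq_of_isIso_restrict (s := q) (V := u.opensRange) ?_ fun x => ?_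
      · rw [Category.assoc, hrq, morphismRestrict_ι_assoc, Category.assoc, hσb]
        simp only [Category.assoc]
        rw [show σ₂.toImage ≫ q = u by rw [Scheme.Hom.toImage_imageι_assoc, hσu]]
        simp only [u]
        rw [reassoc_of% hkι]
        rfl
      · rw [← Scheme.Hom.comp_apply, Category.assoc, hrq, morphismRestrict_ι_assoc, Category.assoc, hσb]
        refine ⟨k (V'.ι x), ?_⟩
        rw [← Scheme.Hom.comp_apply, ← Scheme.Hom.comp_apply]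
        simp only [u, Category.assoc]
        rw [reassoc_of% hkι]
        rfl
    have e' : s ≫ θ = V'.ι ≫ σ := by
      refine pullback.hom_ext ?_ ?_
      · rw [Category.assoc, hθ₁, Category.assoc, hσ₁]
        show s ≫ r ≫ σ₂.imageι ≫ pullback.fst d₁.p d₂.p = _
        rw [reassoc_of% e, Scheme.Hom.toImage_imageι_assoc, pullback.lift_fst, reassoc_of% hkh]
      · rw [Category.assoc, hθ₂, morphismRestrict_ι, Category.assoc]
    refine ⟨s ⟨t, ht⟩, ?_⟩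
    rw [← Scheme.Hom.comp_apply, e', Scheme.Hom.comp_apply]
    rfl
  have hzW : pullback.snd d₁.p p' z ∈ W' := hW' (hC' hzC)
  obtain ⟨y, hy⟩ := closure_subset_range (pullback.snd d₁.p p') W' θ (𝟙 _) (by rw [hθ₂, Category.id_comp])
    (Set.range σ) (by rintro _ ⟨t, rfl⟩ ht; exact hθσ t ht) hz hzW
  have hy₂ : pullback.snd d₁.p p' z = y.1 := by rw [← hy, ← Scheme.Hom.comp_apply, hθ₂]; rfl
  have hy₁ : pullback.fst d₁.p p' z = r₁ y := by rw [← hy, ← Scheme.Hom.comp_apply, hθ₁]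
  show pullback.fst d₁.p p' z ∈ closure (d₁.j '' {x | x.1 ∉ U₂})
  rw [hy₁]
  have hyc : y ∈ closure (Subtype.val ⁻¹' (b ⁻¹' T) : Set W') := by
    refine closure_subtype.mpr (closure_mono ?_ (W'.isOpen.inter_closure ⟨y.2, hy₂ ▸ hC' hzC⟩))
    exact fun y' hy' => ⟨⟨y', hy'.1⟩, hy'.2, rfl⟩
  refine closure_mono ?_ (image_closure_subset_closure_image r₁.continuous ⟨y, hyc, rfl⟩)
  rintro _ ⟨y', hy', rfl⟩
  obtain ⟨v, hv, hvy⟩ := hy'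
  have hq' : q (r y') = b y'.1 := by
    rw [← Scheme.Hom.comp_apply, hrq]
    rfl
  obtain ⟨t, ht⟩ : r y' ∈ Set.range σ₂.toImage := by
    rw [← RGFlatLib.preimage_opensRange_eq σ₂ (pullback.snd d₁.p d₂.p) u hσu]
    show q (r y') ∈ u.opensRange
    rw [hq', ← hvy]
    exact hTW ⟨v, hv, rfl⟩
  have hut : u t = d₂.dom.ι v := by
    rw [hvy, ← hq', ← ht, ← Scheme.Hom.comp_apply, show σ₂.toImage ≫ q = u by rw [Scheme.Hom.toImage_imageι_assoc, hσu]]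
  obtain rfl : t.1 = v := d₂.dom.ι.isOpenEmbedding.injective hut
  refine ⟨(d₂.h ∣_ U₁) t, ?_, ?_⟩
  · show ((d₂.h ∣_ U₁) t).1 ∉ U₂
    rw [morphismRestrict_base_coe]
    exact hv
  · show d₁.j ((d₂.h ∣_ U₁) t) = (r ≫ σ₂.imageι ≫ pullback.fst d₁.p d₂.p) y'
    rw [Scheme.Hom.comp_apply r, ← ht, ← Scheme.Hom.comp_apply σ₂.toImage, Scheme.Hom.toImage_imageι_assoc,
      pullback.lift_fst]
    rfl

end NagataCompLib
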