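import Groth.Agent.NagataCompLib.GluePair
import Groth.Agent.RGFlatLib.Separate

/-!
# Compactified opens with a proper map back
-/

set_option autoImplicit false
universe u
open CategoryTheory CategoryTheory.Limits AlgebraicGeometry TopologicalSpace

namespace NagataCompLib

variable {U S : Scheme.{u}}

/-- A compactification of an open `V` of `U`, an open of which maps properly to `U` extending the inclusion. -/
structure Piece (g : U ⟶ S) (V : U.Opens) where
  Y : Scheme.{u}
  p : Y ⟶ S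
  proper : IsProper p
  dom : Y.Opens
  h : (dom : Scheme.{u}) ⟶ U
  h_proper : IsProper h
  h_w : h ≫ g = dom.ι ≫ p
  k : (V : Scheme.{u}) ⟶ dom
  k_open : IsOpenImmersion k
  k_h : k ≫ h = V.ι
  range_k : ∀ v, h v ∈ V → v ∈ Set.range k

namespace Piece

variable {g : U ⟶ S} {V : U.Opens} (d : Piece g V)

attribute [instance] Piece.proper Piece.h_proper Piece.k_open

/-- The open immersion of the piece into its compactification. -/
noncomputable def j : (V : Scheme.{u}) ⟶ d.Y := d.k ≫ d.dom.ι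

instance : IsOpenImmersion d.j := inferInstanceAs (IsOpenImmersion (d.k ≫ d.dom.ι))

theorem j_w : d.j ≫ d.p = V.ι ≫ g := by
  rw [j, Category.assoc, ← d.h_w, ← Category.assoc, d.k_h]

theorem h_k (x : V) : d.h (d.k x) = x.1 := by
  rw [← Scheme.Hom.comp_apply, d.k_h]
  rfl

/-- The closure of the part of the piece outside `W`. -/
def A (W : U.Opens) : Closeds d.Y := ⟨closure (d.j '' {x | x.1 ∉ W}), isClosed_closure⟩

/-- The closure of the part of the proper neighbourhood mapping outside the piece. -/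
def C : Closeds d.Y := ⟨closure (d.dom.ι '' {v | d.h v ∉ V}), isClosed_closure⟩

theorem j_notMem_C (x : V) : d.j x ∉ d.C := by
  intro hx
  obtain ⟨y, ⟨t, rfl⟩, ⟨v, hv, hvy⟩⟩ := mem_closure_iff.mp hx (Set.range d.j) d.j.isOpenEmbedding.isOpen_range ⟨x, rfl⟩
  obtain rfl : v = d.k t := d.dom.ι.isOpenEmbedding.injective hvy
  exact hv ((d.h_k t).symm ▸ t.2)

theorem isCompact_dom [CompactSpace U] : IsCompact (d.dom : Set d.Y) := by
  exact isCompact_iff_compactSpace.mpr (QuasiCompact.compactSpace_of_compactSpace d.h)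

/-- Pull a piece back along a proper map which is an isomorphism over its open. -/
noncomputable def pull {Y' : Scheme.{u}} (b : Y' ⟶ d.Y) [IsProper b] (hi : IsIso (b ∣_ d.dom)) : Piece g V where
  Y := Y'
  p := b ≫ d.p
  proper := inferInstance
  dom := b ⁻¹ᵁ d.dom
  h := (b ∣_ d.dom) ≫ d.h
  h_proper := inferInstance
  h_w := by rw [Category.assoc, d.h_w, morphismRestrict_ι_assoc]
  k := d.k ≫ @inv _ _ _ _ (b ∣_ d.dom) hi
  k_open := inferInstance
  k_h := by rw [Category.assoc, IsIso.inv_hom_id_assoc, d.k_h]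
  range_k := fun v hv => by
    obtain ⟨t, ht⟩ := d.range_k ((b ∣_ d.dom) v) (by rw [← Scheme.Hom.comp_apply]; exact hv)
    refine ⟨t, ?_⟩
    rw [Scheme.Hom.comp_apply, ht, ← Scheme.Hom.comp_apply, IsIso.hom_inv_id]
    rfl

variable {Y' : Scheme.{u}} (b : Y' ⟶ d.Y) [IsProper b] (hi : IsIso (b ∣_ d.dom))

theorem pull_j_comp : (d.pull b hi).j ≫ b = d.j := by
  show ((d.k ≫ @inv _ _ _ _ (b ∣_ d.dom) hi) ≫ (b ⁻¹ᵁ d.dom).ι) ≫ b = d.k ≫ d.dom.ι
  rw [Category.assoc, ← morphismRestrict_ι, Category.assoc, IsIso.inv_hom_id_assoc]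

theorem pull_A_subset (W : U.Opens) : ((d.pull b hi).A W : Set (d.pull b hi).Y) ⊆ closure (b ⁻¹' (d.j '' {x | x.1 ∉ W})) := by
  refine closure_mono ?_
  rintro _ ⟨x, hx, rfl⟩
  exact ⟨x, hx, by rw [← d.pull_j_comp b hi]; rfl⟩

theorem pull_C_subset : ((d.pull b hi).C : Set (d.pull b hi).Y) ⊆ closure (b ⁻¹' (d.dom.ι '' {v | d.h v ∉ V})) := by
  refine closure_mono ?_
  rintro _ ⟨v, hv, rfl⟩
  refine ⟨(b ∣_ d.dom) v, hv, ?_⟩
  rw [← Scheme.Hom.comp_apply, morphismRestrict_ι]
  rfl

theorem disjoint_pull (W : U.Opens) (h : Disjoint (d.A W : Set d.Y) d.C) :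
    Disjoint ((d.pull b hi).A W : Set (d.pull b hi).Y) (d.pull b hi).C := by
  refine Disjoint.mono ((d.pull_A_subset b hi W).trans ?_) ((d.pull_C_subset b hi).trans ?_) (h.preimage b)
  · exact b.continuous.closure_preimage_subset _
  · exact b.continuous.closure_preimage_subset _

end Piece

variable [CompactSpace S] [QuasiSeparatedSpace S] (g : U ⟶ S) [IsSeparated g] [LocallyOfFiniteType g] [QuasiCompact g]

/-- A compactified open has, after an admissible blow-up, a proper neighbourhood mapping back. -/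
theorem exists_piece (V : U.Opens) (hV : IsCompact (V : Set U))
    (h : ∃ (Y : Scheme.{u}) (j : (V : Scheme.{u}) ⟶ Y) (p : Y ⟶ S), IsOpenImmersion j ∧ QuasiCompact j ∧ IsProper p ∧
      j ≫ p = V.ι ≫ g) : Nonempty (Piece g V) := by
  obtain ⟨Y, j, πY, hjo, hjq, hπ, hj⟩ := h
  haveI := hπ
  haveI := hjo
  haveI := hjq
  haveI : CompactSpace Y := QuasiCompact.compactSpace_of_compactSpace πY
  haveI : QuasiSeparatedSpace Y := quasiSeparatedSpace_of_quasiSeparated πY
  let σ : (V : Scheme.{u}) ⟶ pullback πY g := pullback.lift j V.ι hj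
  have hσ₁ : σ ≫ pullback.fst πY g = j := pullback.lift_fst _ _ _
  have hσ₂ : σ ≫ pullback.snd πY g = V.ι := pullback.lift_snd _ _ _
  haveI : QuasiCompact (σ ≫ pullback.fst πY g) := by rw [hσ₁]; infer_instance
  haveI : QuasiCompact σ := QuasiCompact.of_comp σ (pullback.fst πY g)
  let φ : σ.image ⟶ Y := σ.imageι ≫ pullback.fst πY g
  haveI hφ : IsOpenImmersion (φ ∣_ j.opensRange) :=
    isOpenImmersion_restrict_of_eq φ rfl (RGFlatLib.isIso_image_of_section σ (pullback.fst πY g) j hσ₁)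
  have hO : IsCompact (j.opensRange : Set Y) := by
    haveI : CompactSpace (V : Scheme.{u}) := isCompact_iff_compactSpace.mp hV
    rw [Scheme.Hom.coe_opensRange]
    exact isCompact_range j.continuous
  obtain ⟨K, Y', b, Z, o, z, hb, ha, hoo, hob, hz, hA⟩ := exists_side φ j.opensRange hO
  haveI := hoo
  haveI := BlowUpLib.isProper_of_isBlowUp hb ha.1
  haveI := BlowUpLib.isProper_of_isBlowUp hz hA.1
  haveI : IsProper (σ.imageι ≫ pullback.snd πY g) := inferInstance
  haveI := isOpenImmersion_toImage σ (pullback.fst πY g) j hσ₁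
  have hopen : φ ⁻¹ᵁ j.opensRange = σ.toImage.opensRange :=
    Opens.ext ((RGFlatLib.preimage_opensRange_eq σ _ j hσ₁).trans (Scheme.Hom.coe_opensRange _).symm)
  obtain ⟨w, hw, -⟩ := hz.2 V σ.toImage (by
    rw [show (K.comap φ).comap σ.toImage = ⊤ from ?_]
    · exact EffCartLib.isEffCartier_top
    rw [← Scheme.IdealSheafData.support_eq_bot_iff, Scheme.IdealSheafData.support_comap]
    refine SetLike.ext fun x => iff_of_false (fun hx => ?_) (fun hx => hx)
    refine Set.disjoint_left.mp hA.2 hx ?_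
    rw [RGFlatLib.preimage_opensRange_eq σ _ j hσ₁]
    exact ⟨x, rfl⟩)
  have hiz : IsIso (z ∣_ σ.toImage.opensRange) := hopen ▸ isIso_restrict_of_admissible hz hA
  obtain ⟨hwo, hwr⟩ := isOpenImmersion_lift σ.toImage z hiz w hw
  haveI := hwo
  refine ⟨⟨Y', b ≫ πY, inferInstance, o.opensRange, o.isoOpensRange.inv ≫ z ≫ σ.imageι ≫ pullback.snd πY g,
    inferInstance, ?_, w ≫ o.isoOpensRange.hom, inferInstance, ?_, fun v hv => ?_⟩⟩
  · simp only [Category.assoc, ← pullback.condition]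
    rw [show z ≫ σ.imageι ≫ pullback.fst πY g ≫ πY = (z ≫ φ) ≫ πY by simp only [φ, Category.assoc], ← hob,
      Category.assoc, Scheme.Hom.isoOpensRange_inv_comp_assoc]
  · rw [Category.assoc, Iso.hom_inv_id_assoc, reassoc_of% hw, Scheme.Hom.toImage_imageι_assoc, hσ₂]
  · have h1 : z (o.isoOpensRange.inv v) ∈ Set.range σ.toImage := by
      rw [← RGFlatLib.preimage_opensRange_eq σ (pullback.snd πY g) V.ι hσ₂]
      show _ ∈ V.ι.opensRange
      rw [Scheme.Opens.opensRange_ι]
      simpa only [Scheme.Hom.comp_apply] using hv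
    obtain ⟨t, ht⟩ := hwr.ge (show o.isoOpensRange.inv v ∈ z ⁻¹' Set.range σ.toImage from h1)
    refine ⟨t, ?_⟩
    rw [Scheme.Hom.comp_apply, ht, ← Scheme.Hom.comp_apply, Iso.inv_hom_id]
    rfl

/-- Make the closure of the part of a piece outside `W` miss the part of its neighbourhood mapping outside it. -/
theorem exists_piece_separated {V W : U.Opens} (hcov : V ⊔ W = ⊤) (d : Piece g V) :
    ∃ d' : Piece g V, Disjoint (d'.A W : Set d'.Y) d'.C := by
  haveI : CompactSpace U := QuasiCompact.compactSpace_of_compactSpace g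
  haveI : CompactSpace d.Y := QuasiCompact.compactSpace_of_compactSpace d.p
  haveI : QuasiSeparatedSpace d.Y := quasiSeparatedSpace_of_quasiSeparated d.p
  have hmem : ∀ x : U, x ∈ V ∨ x ∈ W := fun x => (show x ∈ V ⊔ W from hcov ▸ trivial)
  have hTV : d.j '' {x | x.1 ∉ W} ⊆ d.dom := by rintro _ ⟨x, -, rfl⟩; exact (d.k x).2
  have hT : IsClosed (Subtype.val ⁻¹' (d.j '' {x | x.1 ∉ W}) : Set d.dom) := by
    have e : (Subtype.val ⁻¹' (d.j '' {x | x.1 ∉ W}) : Set d.dom) = d.h ⁻¹' (W : Set U)ᶜ := by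
      ext v
      constructor
      · rintro ⟨x, hx, hxv⟩
        obtain rfl : d.k x = v := Subtype.ext hxv
        show d.h (d.k x) ∉ W
        rw [d.h_k]
        exact hx
      · intro hv
        obtain ⟨t, rfl⟩ := d.range_k v ((hmem _).resolve_right hv)
        exact ⟨t, by rw [Set.mem_preimage, d.h_k] at hv; exact hv, rfl⟩
    rw [e]
    exact W.isOpen.isClosed_compl.preimage d.h.continuous
  obtain ⟨K, Y', b, O, hb, ha, -, hTO, hOV⟩ := RGFlatLib.exists_separating d.dom d.isCompact_dom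
    (d.j '' {x | x.1 ∉ W}) hTV hT (W := d.j.opensRange) (by rintro _ ⟨x, -, rfl⟩; exact ⟨x, rfl⟩)
  haveI := BlowUpLib.isProper_of_isBlowUp hb ha.1
  have hi := isIso_restrict_of_admissible hb ha
  refine ⟨d.pull b hi, Disjoint.mono ((d.pull_A_subset b hi W).trans hTO) (closure_minimal ?_ O.isOpen.isClosed_compl)
    disjoint_compl_right⟩
  rintro _ ⟨v, hv, rfl⟩ hvO
  obtain ⟨t, ht⟩ := hOV (show (b ⁻¹ᵁ d.dom).ι v ∈ O ⊓ b ⁻¹ᵁ d.dom from ⟨hvO, v.2⟩)
  apply hv
  show d.h ((b ∣_ d.dom) v) ∈ V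
  have e : d.k t = (b ∣_ d.dom) v := d.dom.ι.isOpenEmbedding.injective (by
    rw [← Scheme.Hom.comp_apply (b ∣_ d.dom), morphismRestrict_ι]
    exact ht)
  rw [← e, d.h_k]
  exact t.2

end NagataCompLib
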