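import Groth.Agent.RGFlatLib.CommonTarget
import Groth.Agent.RGFlatLib.Finite

/-!
# Tools for Nagata compactification
-/

set_option autoImplicit false
universe u
open CategoryTheory CategoryTheory.Limits AlgebraicGeometry TopologicalSpace

namespace NagataCompLib

/-- A flat separated morphism which is a monomorphism over the complement of a Cartier divisor is a
monomorphism. -/
theorem mono_of_flat_of_mono_interior {Z T : Scheme.{u}} (Φ : Z ⟶ T) [Flat Φ] [IsSeparated Φ]
    {E : T.IdealSheafData} (hE : BlowUp.IsEffCartierIdeal E) [Mono (Φ ∣_ ModPair.interior E)] : Mono Φ := by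
  have h12 : pullback.fst Φ Φ = pullback.snd Φ Φ := by
    haveI : Flat (pullback.fst Φ Φ ≫ Φ) := inferInstance
    have hK := BlowUpLib.isEffCartier_comap_of_flat (pullback.fst Φ Φ ≫ Φ) hE
    refine ModPairLib.ext_of_interior hK Φ pullback.condition ?_
    rw [ModPairLib.interior_comap]
    let O := (pullback.fst Φ Φ ≫ Φ) ⁻¹ᵁ ModPair.interior E
    have hr : ∀ (p : pullback Φ Φ ⟶ Z), p ≫ Φ = pullback.fst Φ Φ ≫ Φ →
        Set.range (O.ι ≫ p) ⊆ Set.range (Φ ⁻¹ᵁ ModPair.interior E).ι := by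
      intro p hp
      rw [Scheme.Opens.range_ι]
      rintro _ ⟨z, rfl⟩
      show Φ (p z.1) ∈ ModPair.interior E
      rw [← Scheme.Hom.comp_apply, hp]
      exact z.2
    let l₁ := IsOpenImmersion.lift _ _ (hr (pullback.fst Φ Φ) rfl)
    let l₂ := IsOpenImmersion.lift _ _ (hr (pullback.snd Φ Φ) pullback.condition.symm)
    have h : l₁ = l₂ := by
      rw [← cancel_mono (Φ ∣_ ModPair.interior E), ← cancel_mono (ModPair.interior E).ι, Category.assoc,
        Category.assoc, morphismRestrict_ι, IsOpenImmersion.lift_fac_assoc, IsOpenImmersion.lift_fac_assoc,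
        Category.assoc, Category.assoc, pullback.condition]
    show O.ι ≫ _ = O.ι ≫ _
    rw [← IsOpenImmersion.lift_fac (Φ ⁻¹ᵁ ModPair.interior E).ι _ (hr (pullback.fst Φ Φ) rfl),
      ← IsOpenImmersion.lift_fac (Φ ⁻¹ᵁ ModPair.interior E).ι _ (hr (pullback.snd Φ Φ) pullback.condition.symm)]
    exact congrArg (· ≫ _) h
  refine ⟨fun g h e => ?_⟩
  rw [← pullback.lift_fst g h e, h12, pullback.lift_snd]

/-- A morphism of finite type that is an open immersion over a quasi-compact open becomes an open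
immersion after an admissible blow-up, its source being blown up in the pulled back centre. -/
theorem exists_side {R Y : Scheme.{u}} [CompactSpace Y] [QuasiSeparatedSpace Y] (φ : R ⟶ Y) [IsSeparated φ]
    [LocallyOfFiniteType φ] [QuasiCompact φ] (O : Y.Opens) (hO : IsCompact (O : Set Y))
    [IsOpenImmersion (φ ∣_ O)] :
    ∃ (K : Y.IdealSheafData) (Y' : Scheme.{u}) (b : Y' ⟶ Y) (Z : Scheme.{u}) (o : Z ⟶ Y') (z : Z ⟶ R),
      BlowUp.IsBlowUp b K ∧ BlowUp.IsAdmissibleFor O K ∧ IsOpenImmersion o ∧ o ≫ b = z ≫ φ ∧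
      BlowUp.IsBlowUp z (K.comap φ) ∧ BlowUp.IsAdmissibleFor (φ ⁻¹ᵁ O) (K.comap φ) := by
  obtain ⟨K, Y', b, hb, hadm, -, -, hint, hall⟩ := RGFlatLib.exists_flattening_blowUp φ O hO
  have hpb := IsPullback.of_hasPullback φ b
  obtain ⟨𝒥, h𝒥⟩ := RGFlatLib.exists_strictIdeal hb.1 (pullback.snd φ b)
  obtain ⟨hF, hP, -, hι, -⟩ := hall _ _ _ hpb 𝒥 (by rw [RGFlatLib.exceptional_eq hpb]; exact h𝒥)
  let o := 𝒥.subschemeι ≫ pullback.snd φ b
  haveI : IsOpenImmersion o := by
    have h1 : IsOpenImmersion (o ∣_ (b ⁻¹ᵁ O)) :=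
      RGFlatLib.strict_restrict hpb @IsOpenImmersion ‹IsOpenImmersion (φ ∣_ O)› hι
    haveI : Mono (o ∣_ ModPair.interior (K.comap b)) := by
      rw [hint]
      haveI := h1
      infer_instance
    haveI := mono_of_flat_of_mono_interior o hb.1
    exact IsOpenImmersion.of_flat_of_mono _
  exact ⟨K, Y', b, _, o, 𝒥.subschemeι ≫ pullback.fst φ b, hb, hadm, inferInstance,
    by rw [Category.assoc, Category.assoc, pullback.condition], RGFlatLib.isBlowUp_strict hb hpb h𝒥,
    RGFlatLib.admissible_comap hadm φ⟩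

/-- A lift of an open immersion through a morphism which is an isomorphism over its image is an open immersion. -/
theorem isOpenImmersion_lift {U Y Y' : Scheme.{u}} (j : U ⟶ Y) [IsOpenImmersion j] (b : Y' ⟶ Y)
    (hb : IsIso (b ∣_ j.opensRange)) (k : U ⟶ Y') (hk : k ≫ b = j) :
    IsOpenImmersion k ∧ Set.range k = b ⁻¹' Set.range j := by
  haveI := hb
  have e : k = j.isoOpensRange.hom ≫ inv (b ∣_ j.opensRange) ≫ (b ⁻¹ᵁ j.opensRange).ι := by
    refine ModPairLib.eq_of_isIso_restrict (s := b) (V := j.opensRange) ?_ fun w => ?_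
    · rw [hk]
      simp only [Category.assoc, ← morphismRestrict_ι, IsIso.inv_hom_id_assoc]
      simp [Scheme.Hom.isoOpensRange]
    · exact ⟨w, by rw [← Scheme.Hom.comp_apply k, hk]⟩
  constructor
  · rw [e]; infer_instance
  · ext y
    constructor
    · rintro ⟨w, rfl⟩
      exact ⟨w, by rw [← Scheme.Hom.comp_apply k, hk]⟩
    · rintro ⟨w, hw⟩
      refine ⟨w, congrArg Subtype.val ((b ∣_ j.opensRange).homeomorph.injective
        (a₁ := ⟨k w, ⟨w, by rw [← Scheme.Hom.comp_apply k, hk]⟩⟩) (a₂ := ⟨y, ⟨w, hw⟩⟩) (Subtype.ext ?_))⟩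
      rw [Scheme.Hom.homeomorph_apply, Scheme.Hom.homeomorph_apply, morphismRestrict_base_coe, morphismRestrict_base_coe]
      show b (k w) = b y
      rw [← Scheme.Hom.comp_apply k, hk, hw]

end NagataCompLib
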