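import Groth.Agent.NagataCompLib.Linked
import Groth.Agent.NagataCompLib.Core

/-!
# A union of two compactifiable opens is compactifiable
-/

set_option autoImplicit false
universe u
open CategoryTheory CategoryTheory.Limits AlgebraicGeometry TopologicalSpace

namespace NagataCompLib

/-- A quasi-compact open around a compact set missing a closed one. -/
theorem exists_qc_open_avoiding {Y : Scheme.{u}} [CompactSpace Y] [QuasiSeparatedSpace Y] (Z : Closeds Y) {T : Set Y}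
    (hT : IsCompact T) (hd : Disjoint (Z : Set Y) T) :
    ∃ G : Y.Opens, IsCompact (G : Set Y) ∧ T ⊆ G ∧ Disjoint (G : Set Y) Z := by
  obtain ⟨J, hJ, hZJ, hJT⟩ := RGFlatLib.exists_ft_separating Z hT hd
  refine ⟨⟨(J.support : Set Y)ᶜ, J.support.isClosed.isOpen_compl⟩,
    MiscFlat6.isCompact_of_finiteType_idealSheaf ⟨_, J.support.isClosed.isOpen_compl⟩ J hJ (compl_compl _).symm,
    fun x hx hxJ => Set.disjoint_left.mp hJT hxJ hx, Set.disjoint_left.2 fun x hx hxZ => hx (hZJ hxZ)⟩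

/-- A scheme which is the union of two quasi-compact opens having compactifications has one. -/
theorem exists_compactification_union {U S : Scheme.{u}} [CompactSpace S] [QuasiSeparatedSpace S] (g : U ⟶ S)
    [IsSeparated g] [LocallyOfFiniteType g] [QuasiCompact g] (U₁ U₂ : U.Opens) (hcov : U₁ ⊔ U₂ = ⊤)
    (hU₁ : IsCompact (U₁ : Set U)) (hU₂ : IsCompact (U₂ : Set U))
    (h₁ : ∃ (Y : Scheme.{u}) (j : (U₁ : Scheme.{u}) ⟶ Y) (p : Y ⟶ S), IsOpenImmersion j ∧ QuasiCompact j ∧ IsProper p ∧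
      j ≫ p = U₁.ι ≫ g)
    (h₂ : ∃ (Y : Scheme.{u}) (j : (U₂ : Scheme.{u}) ⟶ Y) (p : Y ⟶ S), IsOpenImmersion j ∧ QuasiCompact j ∧ IsProper p ∧
      j ≫ p = U₂.ι ≫ g) :
    ∃ (Y : Scheme.{u}) (j : U ⟶ Y) (p : Y ⟶ S), IsOpenImmersion j ∧ QuasiCompact j ∧ IsProper p ∧ j ≫ p = g := by
  haveI : CompactSpace U := QuasiCompact.compactSpace_of_compactSpace g
  obtain ⟨a₁⟩ := exists_piece g U₁ hU₁ h₁
  obtain ⟨a₂⟩ := exists_piece g U₂ hU₂ h₂
  obtain ⟨d₁, hs₁⟩ := exists_piece_separated g (W := U₂) hcov a₁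
  obtain ⟨b₂, hb₂⟩ := exists_piece_separated g (W := U₁) (sup_comm U₁ U₂ ▸ hcov) a₂
  obtain ⟨d₂, hs₂, hlink⟩ := exists_piece_linked hcov hU₁ d₁ b₂ hb₂
  haveI : CompactSpace d₁.Y := QuasiCompact.compactSpace_of_compactSpace d₁.p
  haveI : CompactSpace d₂.Y := QuasiCompact.compactSpace_of_compactSpace d₂.p
  haveI : QuasiSeparatedSpace d₁.Y := quasiSeparatedSpace_of_quasiSeparated d₁.p
  haveI : QuasiSeparatedSpace d₂.Y := quasiSeparatedSpace_of_quasiSeparated d₂.p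
  let σ : ((U₁ ⊓ U₂ : U.Opens) : Scheme.{u}) ⟶ pullback d₁.p d₂.p :=
    pullback.lift (U.homOfLE inf_le_left ≫ d₁.j) (U.homOfLE inf_le_right ≫ d₂.j) (by
      rw [Category.assoc, Category.assoc, d₁.j_w, d₂.j_w, Scheme.homOfLE_ι_assoc, Scheme.homOfLE_ι_assoc])
  have hσ₁ : σ ≫ pullback.fst d₁.p d₂.p = U.homOfLE inf_le_left ≫ d₁.j := pullback.lift_fst _ _ _
  have hσ₂ : σ ≫ pullback.snd d₁.p d₂.p = U.homOfLE inf_le_right ≫ d₂.j := pullback.lift_snd _ _ _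
  have hU₁' : CompactSpace U₁ := isCompact_iff_compactSpace.mp hU₁
  have hU₂' : CompactSpace U₂ := isCompact_iff_compactSpace.mp hU₂
  obtain ⟨G₁, hG₁c, hG₁, hG₁C⟩ := exists_qc_open_avoiding d₁.C (T := (d₁.A U₂ : Set d₁.Y) ∪ Set.range d₁.j)
    ((d₁.A U₂).isClosed.isCompact.union (isCompact_range d₁.j.continuous))
    (Set.disjoint_union_right.mpr ⟨hs₁.symm, Set.disjoint_right.2 fun _ ⟨x, hx⟩ => hx ▸ d₁.j_notMem_C x⟩)
  let B : Set d₂.Y := pullback.snd d₁.p d₂.p '' (closure (Set.range σ) ∩ pullback.fst d₁.p d₂.p ⁻¹' (G₁ : Set d₁.Y)ᶜ)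
  haveI : CompactSpace (pullback d₁.p d₂.p : Scheme.{u}) :=
    QuasiCompact.compactSpace_of_compactSpace (pullback.fst d₁.p d₂.p)
  have hB : IsCompact B := ((isClosed_closure.inter
    (G₁.isOpen.isClosed_compl.preimage (pullback.fst d₁.p d₂.p).continuous)).isCompact).image
      (pullback.snd d₁.p d₂.p).continuous
  have hBC : Disjoint (d₂.C : Set d₂.Y) B := by
    refine Set.disjoint_right.2 ?_
    rintro _ ⟨z, ⟨hz, hzG⟩, rfl⟩ hzC
    exact hzG (hG₁ (Or.inl (hlink σ hσ₁ hσ₂ z hz hzC)))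
  obtain ⟨G₂, hG₂c, hG₂, hG₂C⟩ := exists_qc_open_avoiding d₂.C (T := ((d₂.A U₁ : Set d₂.Y) ∪ Set.range d₂.j) ∪ B)
    (((d₂.A U₁).isClosed.isCompact.union (isCompact_range d₂.j.continuous)).union hB)
    (Set.disjoint_union_right.mpr ⟨Set.disjoint_union_right.mpr
      ⟨hs₂.symm, Set.disjoint_right.2 fun _ ⟨x, hx⟩ => hx ▸ d₂.j_notMem_C x⟩, hBC⟩)
  refine exists_compactification_core g U₁ U₂ hcov hU₁ hU₂ d₁.p d₂.p d₁.j d₂.j d₁.j_w d₂.j_w G₁ G₂ hG₁c hG₂c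
    (fun x hx => hG₁ (Or.inr hx)) (fun x hx => hG₂ (Or.inl (Or.inr hx))) (d₁.A U₂) (d₂.A U₁)
    (fun x hx => hG₁ (Or.inl hx)) (fun x hx => hG₂ (Or.inl (Or.inl hx)))
    (fun x hx => subset_closure ⟨x, hx, rfl⟩) (fun x hx => subset_closure ⟨x, hx, rfl⟩) σ hσ₁ hσ₂ ?_ ?_ ?_
  · intro z hz
    by_cases h : pullback.fst d₁.p d₂.p z ∈ G₁
    · exact Or.inl h
    · exact Or.inr (hG₂ (Or.inr ⟨z, ⟨hz, h⟩, rfl⟩))
  · intro z hz h1 h2
    exact mem_range_of_notMem_C d₁ d₂ (IsPullback.of_hasPullback d₁.p d₂.p) σ _ _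
      (by rw [Scheme.homOfLE_ι, Scheme.homOfLE_ι]) (fun x hx => ⟨⟨x.1, hx, x.2⟩, Subtype.ext (by simp)⟩)
      hσ₁ hσ₂ hz h1 fun hc => Set.disjoint_left.mp hG₂C h2 hc
  · intro z hz h2 h1
    exact mem_range_of_notMem_C d₂ d₁ (IsPullback.of_hasPullback d₁.p d₂.p).flip σ _ _
      (by rw [Scheme.homOfLE_ι, Scheme.homOfLE_ι]) (fun x hx => ⟨⟨x.1, x.2, hx⟩, Subtype.ext (by simp)⟩)
      hσ₂ hσ₁ hz h2 fun hc => Set.disjoint_left.mp hG₁C h1 hc

end NagataCompLib
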